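import Mathlib.Algebra.MvPolynomial.Expand
import Mathlib.Algebra.MvPolynomial.PDeriv
import Mathlib.Algebra.CharP.Invertible
import Mathlib.Algebra.CharP.Lemmas
import Mathlib.Algebra.Polynomial.Expand
import Mathlib.Algebra.Polynomial.Derivation
import Mathlib.RingTheory.MvPolynomial.Ideal
import Mathlib.Data.Nat.Choose.Sum
import Mathlib.Data.Nat.Choose.Dvd
import Mathlib.Data.Nat.Prime.Factorial
import Mathlib.RingTheory.Ideal.Quotient.Operations

/-!
# Truncated multiplicative cocycles split when Frobenius is surjective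

A symmetric normalised cocycle on `α_{p^n}` is split by solving its logarithmic derivative and
descending along `x ↦ x ^ p`.
-/

set_option autoImplicit false
set_option linter.all false

universe u

open MvPolynomial

namespace Groth.Agent.GaPerf23.AlphaCocycle

attribute [-simp] MvPolynomial.aeval_eq_bind₁

variable {R : Type u} [CommRing R]

/-- The truncation ideal. -/
noncomputable def trI (R : Type u) [CommRing R] (k N : ℕ) : Ideal (MvPolynomial (Fin k) R) :=
  Ideal.span (Set.range fun i : Fin k => (X i : MvPolynomial (Fin k) R) ^ N)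

/-- The truncation ideal in one variable. -/
noncomputable def trJ (R : Type u) [CommRing R] (N : ℕ) : Ideal (Polynomial R) :=
  Ideal.span {(Polynomial.X : Polynomial R) ^ N}

theorem X_pow_mem (k N : ℕ) (i : Fin k) : (X i : MvPolynomial (Fin k) R) ^ N ∈ trI R k N :=
  Ideal.subset_span ⟨i, rfl⟩

theorem mem_trI_iff {k N : ℕ} (f : MvPolynomial (Fin k) R) :
    f ∈ trI R k N ↔ ∀ d ∈ f.support, ∃ i, N ≤ d i := by
  have h : trI R k N = Ideal.span
      ((fun s => monomial s (1 : R)) '' Set.range fun i : Fin k => Finsupp.single i N) := by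
    rw [trI, ← Set.range_comp]
    congr 2
    funext i
    exact X_pow_eq_monomial
  rw [h, mem_ideal_span_monomial_image]
  simp [Finsupp.single_le_iff]

section Maps

variable {N : ℕ}

theorem aeval_mem {k : ℕ} {S : Type u} [CommRing S] [Algebra R S] {I : Ideal S} (v : Fin k → S)
    (hv : ∀ i, v i ^ N ∈ I) {f : MvPolynomial (Fin k) R} (hf : f ∈ trI R k N) : aeval v f ∈ I := by
  have h : trI R k N ≤ I.comap (aeval (R := R) v) := Ideal.span_le.2 (by
    rintro _ ⟨i, rfl⟩
    simpa using hv i)
  exact h hf

theorem paeval_mem {S : Type u} [CommRing S] [Algebra R S] {I : Ideal S} (v : S)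
    (hv : v ^ N ∈ I) {f : Polynomial R} (hf : f ∈ trJ R N) : Polynomial.aeval v f ∈ I := by
  obtain ⟨c, rfl⟩ := Ideal.mem_span_singleton'.1 hf
  rw [map_mul, map_pow, Polynomial.aeval_X]
  exact I.mul_mem_left _ hv

theorem pderiv_mem {k : ℕ} (hN : (N : R) = 0) (i : Fin k) {f : MvPolynomial (Fin k) R} (hf : f ∈ trI R k N) :
    pderiv i f ∈ trI R k N := by
  induction hf using Submodule.span_induction with
  | mem x hx =>
    obtain ⟨j, rfl⟩ := hx
    rw [pderiv_pow, ← map_natCast (C : R →+* MvPolynomial (Fin k) R), hN, map_zero, zero_mul, zero_mul]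
    exact Ideal.zero_mem _
  | zero => rw [map_zero]; exact Ideal.zero_mem _
  | add a b _ _ ha hb => rw [map_add]; exact Ideal.add_mem _ ha hb
  | smul c a hm ha =>
    rw [smul_eq_mul, pderiv_mul]
    exact Ideal.add_mem _ (Ideal.mul_mem_left _ _ hm) (Ideal.mul_mem_left _ _ ha)

theorem derivative_mem (hN : (N : R) = 0) {f : Polynomial R} (hf : f ∈ trJ R N) :
    Polynomial.derivative f ∈ trJ R N := by
  obtain ⟨c, rfl⟩ := Ideal.mem_span_singleton'.1 hf
  rw [Polynomial.derivative_mul, Polynomial.derivative_X_pow, hN, map_zero, zero_mul, mul_zero, add_zero]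
  exact Ideal.mul_mem_left _ _ (Ideal.mem_span_singleton_self _)

theorem map_eq {S T : Type u} [CommRing S] [CommRing T] {I : Ideal S} {I' : Ideal T} {φ : S → T}
    (hs : ∀ a b, φ (a - b) = φ a - φ b) (h : ∀ a ∈ I, φ a ∈ I') {a b : S}
    (hab : Ideal.Quotient.mk I a = Ideal.Quotient.mk I b) :
    Ideal.Quotient.mk I' (φ a) = Ideal.Quotient.mk I' (φ b) := by
  rw [Ideal.Quotient.eq] at hab ⊢
  rw [← hs]
  exact h _ hab

end Maps

section Curvature

variable {S : Type u} [CommRing S] [Algebra R S] (D : Derivation R S S)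

/-- The iterates of `D + u` applied to one. -/
noncomputable def cu (u : S) : ℕ → S
  | 0 => 1
  | k + 1 => D (cu u k) + u * cu u k

theorem cu_add (u v : S) (n : ℕ) :
    cu D (u + v) n = ∑ i ∈ Finset.range (n + 1), (n.choose i : S) * (cu D u i * cu D v (n - i)) := by
  induction n with
  | zero => simp [cu]
  | succ n ih =>
    rw [Finset.sum_choose_succ_mul (fun i j => cu D u i * cu D v j) n]
    show D (cu D (u + v) n) + (u + v) * cu D (u + v) n = _
    rw [ih, map_sum, Finset.mul_sum, ← Finset.sum_add_distrib, ← Finset.sum_add_distrib]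
    refine Finset.sum_congr rfl fun i hi => ?_
    rw [show n + 1 - i = n - i + 1 by have := Finset.mem_range.1 hi; omega]
    show _ = (n.choose i : S) * (cu D u i * (D (cu D v (n - i)) + v * cu D v (n - i))) +
      (n.choose i : S) * ((D (cu D u i) + u * cu D u i) * cu D v (n - i))
    rw [D.leibniz, D.leibniz, D.map_natCast, smul_eq_mul, smul_eq_mul, smul_eq_mul, smul_eq_mul]
    ring

theorem cu_add_prime (p : ℕ) [hp : Fact p.Prime] [CharP S p] (u v : S) :
    cu D (u + v) p = cu D u p + cu D v p := by
  rw [cu_add, Finset.sum_range_succ, Finset.sum_eq_single_of_mem 0 (Finset.mem_range.2 hp.out.pos)]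
  · simp [cu, add_comm]
  · intro i hi hi0
    rw [(CharP.cast_eq_zero_iff S p _).2 (Nat.Prime.dvd_choose_self hp.out hi0 (Finset.mem_range.1 hi)), zero_mul]

theorem cu_zero {k : ℕ} (hk : k ≠ 0) : cu D 0 k = 0 := by
  induction k with
  | zero => exact absurd rfl hk
  | succ k ih =>
    rcases Nat.eq_zero_or_pos k with rfl | hk'
    · simp [cu]
    · simp [cu, ih hk'.ne']

theorem cu_neg_prime (p : ℕ) [hp : Fact p.Prime] [CharP S p] (u : S) : cu D (-u) p = -cu D u p := by
  rw [eq_neg_iff_add_eq_zero, ← cu_add_prime D p, neg_add_cancel, cu_zero D hp.out.ne_zero]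

theorem cu_const {c : S} (hc : D c = 0) (k : ℕ) : cu D c k = c ^ k := by
  induction k with
  | zero => exact (pow_zero c).symm
  | succ k ih =>
    show D (cu D c k) + c * cu D c k = _
    rw [ih, D.leibniz_pow, hc, smul_zero, smul_zero, zero_add, pow_succ']

theorem cu_map {T : Type u} [CommRing T] [Algebra R T] (D' : Derivation R T T) (g : S →ₐ[R] T)
    (h : ∀ s, D' (g s) = g (D s)) (u : S) (k : ℕ) : g (cu D u k) = cu D' (g u) k := by
  induction k with
  | zero => exact map_one g
  | succ k ih =>
    show g (D (cu D u k) + u * cu D u k) = D' (cu D' (g u) k) + g u * cu D' (g u) k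
    rw [map_add, map_mul, ← h, ih]

end Curvature

theorem pderiv_aeval {k l : ℕ} (i : Fin l) (v : Fin k → MvPolynomial (Fin l) R) (f : MvPolynomial (Fin k) R) :
    pderiv i (aeval v f) = ∑ j, aeval v (pderiv j f) * pderiv i (v j) := by
  induction f using MvPolynomial.induction_on with
  | C a => simp [algebraMap_eq]
  | add f g hf hg => simp only [map_add, hf, hg, Finset.sum_add_distrib, add_mul]
  | mul_X f j hf =>
    classical
    simp only [map_mul, aeval_X, pderiv_mul, map_add, hf, add_mul, Finset.sum_add_distrib, Finset.sum_mul]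
    congr 1
    · exact Finset.sum_congr rfl fun a _ => by ring
    · rw [Finset.sum_eq_single_of_mem j (Finset.mem_univ _) fun a _ ha => by rw [pderiv_X_of_ne (Ne.symm ha)]; simp]
      simp [mul_assoc]

theorem pderiv_paeval {l : ℕ} (i : Fin l) (v : MvPolynomial (Fin l) R) (f : Polynomial R) :
    pderiv i (Polynomial.aeval v f) = Polynomial.aeval v (Polynomial.derivative f) * pderiv i v := by
  induction f using Polynomial.induction_on' with
  | add f g hf hg => simp [hf, hg, add_mul]
  | monomial n a =>
    rw [Polynomial.derivative_monomial, Polynomial.aeval_monomial, Polynomial.aeval_monomial, algebraMap_eq,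
      pderiv_C_mul, pderiv_pow, map_mul, map_natCast]
    ring

section Prime

variable (p : ℕ) [hp : Fact p.Prime] [CharP R p]

theorem iterate_pderiv_eq_zero {k : ℕ} (i : Fin k) (f : MvPolynomial (Fin k) R) : (⇑(pderiv i))^[p] f = 0 := by
  haveI : CharP (MvPolynomial (Fin k) R) p := inferInstance
  let D : MvPolynomial (Fin k) R → MvPolynomial (Fin k) R := ⇑(pderiv i)
  have key : ∀ (f : MvPolynomial (Fin k) R) (j : Fin k) (m : ℕ),
      D^[m + 1] (f * X j) = D^[m + 1] f * X j + ((m : MvPolynomial (Fin k) R) + 1) * (D^[m] f * pderiv i (X j)) := by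
    intro f j m
    induction m with
    | zero =>
      simp only [D, Nat.cast_zero, zero_add, Function.iterate_one, Function.iterate_zero_apply, pderiv_mul]
      ring
    | succ m ih =>
      have hd : pderiv i (pderiv i (X j : MvPolynomial (Fin k) R)) = 0 := by
        classical
        rcases eq_or_ne j i with rfl | h
        · rw [pderiv_X_self, pderiv_one]
        · rw [pderiv_X_of_ne (Ne.symm h).symm, map_zero]
      rw [Function.iterate_succ_apply' D (m + 1), ih, Function.iterate_succ_apply' D (m + 1) f,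
        Function.iterate_succ_apply' D m f]
      show pderiv i _ = _
      simp only [D]
      rw [map_add, pderiv_mul, pderiv_mul, pderiv_mul, hd, map_add, Derivation.map_natCast,
        Derivation.map_one_eq_zero, Nat.cast_succ]
      ring
  obtain ⟨m, hm⟩ : ∃ m, p = m + 1 := ⟨p - 1, (Nat.sub_add_cancel hp.out.pos).symm⟩
  show D^[p] f = 0
  induction f using MvPolynomial.induction_on with
  | C a =>
    rw [hm, Function.iterate_succ_apply, show D (C a) = 0 from pderiv_C]
    exact Function.iterate_fixed (map_zero _) m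
  | add f g hf hg =>
    have h := iterate_map_add (pderiv i).toLinearMap.toAddMonoidHom p f g
    show D^[p] (f + g) = 0
    refine h.trans ?_
    show D^[p] f + D^[p] g = 0
    rw [hf, hg, add_zero]
  | mul_X f j hf =>
    rw [hm, key, show ((m : MvPolynomial (Fin k) R) + 1) = (p : MvPolynomial (Fin k) R) by rw [hm, Nat.cast_succ],
      CharP.cast_eq_zero, zero_mul, add_zero, ← hm, hf, zero_mul]

/-- Cocycles on the truncation. -/
structure IsCocycle (N : ℕ) (h : MvPolynomial (Fin 2) R) : Prop where
  symm : aeval ![(X 1 : MvPolynomial (Fin 2) R), X 0] h - h ∈ trI R 2 N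
  coc : aeval ![(X 1 : MvPolynomial (Fin 3) R), X 2] h * aeval ![X 0, X 1 + X 2] h -
      aeval ![X 0 + X 1, X 2] h * aeval ![X 0, X 1] h ∈ trI R 3 N
  norm : aeval ![(X 0 : MvPolynomial (Fin 2) R), 0] h - 1 ∈ trI R 2 N

theorem pow_mem_add {k : ℕ} (n : ℕ) (a b : MvPolynomial (Fin k) R) (ha : a ^ p ^ n ∈ trI R k (p ^ n))
    (hb : b ^ p ^ n ∈ trI R k (p ^ n)) : (a + b) ^ p ^ n ∈ trI R k (p ^ n) := by
  haveI : CharP (MvPolynomial (Fin k) R) p := inferInstance
  rw [add_pow_char_pow]
  exact Ideal.add_mem _ ha hb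

theorem exists_inverse {N : ℕ} (f : Polynomial R) (hf : f.coeff 0 = 1) :
    ∃ g : Polynomial R, Ideal.Quotient.mk (trJ R N) (f * g) = 1 := by
  have hx : IsNilpotent (Ideal.Quotient.mk (trJ R N) Polynomial.X) :=
    ⟨N, by rw [← map_pow]; exact Ideal.Quotient.eq_zero_iff_mem.2 (Ideal.mem_span_singleton_self _)⟩
  have h1 : IsUnit (Ideal.Quotient.mk (trJ R N) f) := by
    have h2 := ((Commute.all (Ideal.Quotient.mk (trJ R N) Polynomial.X) (Ideal.Quotient.mk (trJ R N) f.divX)).isNilpotent_mul_right hx).isUnit_add_one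
    rwa [← map_mul, ← map_one (Ideal.Quotient.mk (trJ R N)), ← map_add, ← Polynomial.C_1, ← hf,
      Polynomial.X_mul_divX_add] at h2
  obtain ⟨b, hb⟩ := h1.exists_right_inv
  obtain ⟨g, rfl⟩ := Ideal.Quotient.mk_surjective b
  exact ⟨g, by rw [map_mul, hb]⟩

theorem exists_horizontal {N : ℕ} (hN : (N : R) = 0) (hN0 : 0 < N) (ψ : Polynomial R)
    (hψ : cu Polynomial.derivative' ψ p ∈ trJ R N) :
    ∃ f : Polynomial R, f.coeff 0 = 1 ∧ Polynomial.derivative f - ψ * f ∈ trJ R N := by
  haveI : CharP (Polynomial R) p := inferInstance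
  let i : ℕ → R := fun k => Ring.inverse (k.factorial : R)
  have hu : ∀ k, k < p → IsUnit (k.factorial : R) := fun k hk =>
    (CharP.isUnit_natCast_iff hp.out).2 fun h => absurd ((Nat.Prime.dvd_factorial hp.out).1 h) (not_le.2 hk)
  have hi : ∀ k, k + 1 < p → ((k + 1 : ℕ) : R) * i (k + 1) = i k := fun k hk => by
    refine (hu k (by omega)).mul_left_cancel ?_
    rw [Ring.mul_inverse_cancel _ (hu k (by omega)), ← mul_assoc, ← Nat.cast_mul, mul_comm k.factorial,
      ← Nat.factorial_succ, Ring.mul_inverse_cancel _ (hu (k + 1) hk)]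
  let c := cu Polynomial.derivative' (-ψ)
  let t : ℕ → Polynomial R := fun k => Polynomial.C (i k) * (-Polynomial.X) ^ k
  let f := fun m => ∑ k ∈ Finset.range (m + 1), t k * c k
  have h0 : ∀ m, (f m).coeff 0 = 1 := fun m => by
    show (∑ k ∈ Finset.range (m + 1), t k * c k).coeff 0 = 1
    rw [Polynomial.finsetSum_coeff, Finset.sum_eq_single_of_mem 0 (by simp)]
    · simp [t, c, cu, i, Polynomial.coeff_zero_eq_eval_zero]
    · intro k _ hk
      simp [t, Polynomial.coeff_zero_eq_eval_zero, zero_pow hk]
  have hd : ∀ m, m < p → Polynomial.derivative (f m) - ψ * f m = t m * c (m + 1) := fun m => by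
    induction m with
    | zero => intro _; simp [f, t, c, cu, i]
    | succ m ih =>
      intro hm
      have hstep : f (m + 1) = f m + t (m + 1) * c (m + 1) := Finset.sum_range_succ _ _
      have ht : Polynomial.derivative (t (m + 1)) = -t m := by
        show Polynomial.derivative (Polynomial.C (i (m + 1)) * (-Polynomial.X) ^ (m + 1)) =
          -(Polynomial.C (i m) * (-Polynomial.X) ^ m)
        rw [← hi m hm, Polynomial.derivative_C_mul, Polynomial.derivative_pow, Polynomial.derivative_neg,
          Polynomial.derivative_X, map_mul]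
        simp
        ring
      rw [hstep, map_add, Polynomial.derivative_mul, ht,
        show c (m + 1 + 1) = Polynomial.derivative (c (m + 1)) + -ψ * c (m + 1) from rfl]
      linear_combination ih (by omega)
  refine ⟨f (p - 1), h0 _, ?_⟩
  rw [hd _ (Nat.sub_lt hp.out.pos Nat.one_pos), Nat.sub_add_cancel hp.out.pos]
  refine Ideal.mul_mem_left _ _ ?_
  show cu Polynomial.derivative' (-ψ) p ∈ _
  rw [cu_neg_prime]
  exact Submodule.neg_mem _ hψ

theorem exists_expand {N : ℕ} (k : MvPolynomial (Fin 2) R) (hk : ∀ i, pderiv i k ∈ trI R 2 (N * p)) :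
    ∃ k' : MvPolynomial (Fin 2) R, k - expand p k' ∈ trI R 2 (N * p) := by
  classical
  have key : ∀ d : Fin 2 →₀ ℕ, ∃ k' : MvPolynomial (Fin 2) R,
      monomial d (k.coeff d) - expand p k' ∈ trI R 2 (N * p) := fun d => by
    by_cases h1 : ∃ i, N * p ≤ d i
    · refine ⟨0, (mem_trI_iff _).2 fun e he => ?_⟩
      rw [map_zero, sub_zero] at he
      rw [Finset.mem_singleton.1 (support_monomial_subset he)]
      exact h1
    by_cases h2 : ∀ i, p ∣ d i
    · refine ⟨monomial (d.mapRange (· / p) (Nat.zero_div p)) (k.coeff d), ?_⟩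
      rw [expand_monomial, show p • d.mapRange (· / p) (Nat.zero_div p) = d from
        Finsupp.ext fun i => by simp [Nat.mul_div_cancel' (h2 i)], sub_self]
      exact Ideal.zero_mem _
    · push Not at h1 h2
      obtain ⟨i, hi⟩ := h2
      obtain ⟨m, hm⟩ : ∃ m, d i = m + 1 := Nat.exists_eq_succ_of_ne_zero fun h => hi (h ▸ dvd_zero p)
      have hd : d - Finsupp.single i 1 + Finsupp.single i 1 = d :=
        tsub_add_cancel_of_le (Finsupp.single_le_iff.2 (by omega))
      have h3 : (pderiv i k).coeff (d - Finsupp.single i 1) = 0 := by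
        by_contra h
        obtain ⟨j, hj⟩ := (mem_trI_iff _).1 (hk i) _ (mem_support_iff.2 h)
        have h4 : (d - Finsupp.single i 1 : Fin 2 →₀ ℕ) j ≤ d j := by rw [Finsupp.tsub_apply]; exact Nat.sub_le _ _
        exact absurd (hj.trans h4) (not_le.2 (h1 j))
      rw [coeff_pderiv, hd, Finsupp.tsub_apply, Finsupp.single_eq_same, hm, Nat.add_sub_cancel,
        ← Nat.cast_succ] at h3
      have h5 : k.coeff d = 0 := (((CharP.isUnit_natCast_iff hp.out).2 (show ¬ p ∣ m.succ by rw [Nat.succ_eq_add_one, ← hm]; exact hi)).mul_left_eq_zero).1 h3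
      exact ⟨0, by rw [h5, monomial_zero, map_zero, sub_zero]; exact Ideal.zero_mem _⟩
  choose g hg using key
  refine ⟨∑ d ∈ k.support, g d, ?_⟩
  conv =>
    arg 2
    rw [map_sum]
  conv =>
    arg 2
    arg 1
    rw [as_sum k]
  rw [← Finset.sum_sub_distrib]
  exact Ideal.sum_mem _ fun d _ => hg d

theorem of_expand {k N : ℕ} (f : MvPolynomial (Fin k) R) (hf : expand p f ∈ trI R k (N * p)) :
    f ∈ trI R k N := by
  rw [mem_trI_iff] at hf ⊢
  intro d hd
  obtain ⟨i, hi⟩ := hf (p • d) (by
    rw [mem_support_iff, coeff_expand_smul p hp.out.ne_zero]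
    exact mem_support_iff.1 hd)
  refine ⟨i, Nat.le_of_mul_le_mul_left ?_ hp.out.pos⟩
  rw [mul_comm p N]
  simpa using hi

theorem expand_aeval {k l : ℕ} (v : Fin k → MvPolynomial (Fin l) R) (hv : ∀ i, expand p (v i) = v i ^ p)
    (f : MvPolynomial (Fin k) R) : expand p (aeval v f) = aeval v (expand p f) := by
  induction f using MvPolynomial.induction_on with
  | C a => simp [expand_C, algebraMap_eq]
  | add f g hf hg => simp only [map_add, hf, hg]
  | mul_X f i hf => simp only [map_mul, aeval_X, expand_X, map_pow, hv, hf]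

/-- A truncated symmetric normalised cocycle is a coboundary. -/
theorem exists_split (hF : Function.Surjective (frobenius R p)) (n : ℕ) :
    ∀ h : MvPolynomial (Fin 2) R, IsCocycle (p ^ n) h → ∃ f : Polynomial R, f.coeff 0 = 1 ∧
      Polynomial.aeval (X 0 + X 1 : MvPolynomial (Fin 2) R) f -
        Polynomial.aeval (X 0 : MvPolynomial (Fin 2) R) f *
          Polynomial.aeval (X 1 : MvPolynomial (Fin 2) R) f * h ∈ trI R 2 (p ^ n) := by
  induction n with
  | zero =>
    intro h hh
    refine ⟨1, Polynomial.coeff_one_zero, ?_⟩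
    rw [map_one, map_one, map_one, one_mul, one_mul]
    have hI : ∀ i, (X i : MvPolynomial (Fin 2) R) ∈ trI R 2 (p ^ 0) := fun i => by
      rw [show trI R 2 (p ^ 0) = trI R 2 1 from congrArg (trI R 2) (Nat.pow_zero p)]
      have h1 := X_pow_mem (R := R) 2 1 i
      rwa [pow_one] at h1
    have h1 : ∀ P : MvPolynomial (Fin 2) R, P - aeval ![X 0, 0] P ∈ trI R 2 (p ^ 0) := fun P => by
      rw [← Ideal.Quotient.eq]
      induction P using MvPolynomial.induction_on with
      | C a => simp [algebraMap_eq]
      | add P Q hP hQ => simp only [map_add, hP, hQ]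
      | mul_X P i hP =>
        simp only [map_mul, aeval_X, hP]
        fin_cases i
        · simp
        · show _ * Ideal.Quotient.mk (trI R 2 (p ^ 0)) (X 1) = _ * Ideal.Quotient.mk (trI R 2 (p ^ 0)) 0
          rw [Ideal.Quotient.eq_zero_iff_mem.2 (hI 1), map_zero]
    have h2 := Submodule.neg_mem _ (Ideal.add_mem _ (h1 h) hh.norm)
    convert h2 using 1
    ring
  | succ n ih =>
    intro h hh
    haveI : CharP (Polynomial R) p := inferInstance
    haveI : CharP (MvPolynomial (Fin 2) R) p := inferInstance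
    set N := p ^ (n + 1) with hNdef
    have hN : (N : R) = 0 := by rw [hNdef, Nat.cast_pow, CharP.cast_eq_zero, zero_pow n.succ_ne_zero]
    have hN0 : 0 < N := pow_pos hp.out.pos _
    let q := Ideal.Quotient.mk (trI R 2 N)
    let qJ := Ideal.Quotient.mk (trJ R N)
    let Y : MvPolynomial (Fin 2) R := X 0
    let Z : MvPolynomial (Fin 2) R := X 1
    have hY : Y ^ N ∈ trI R 2 N := X_pow_mem 2 N 0
    have hZ : Z ^ N ∈ trI R 2 N := X_pow_mem 2 N 1
    have hYZ : (Y + Z) ^ N ∈ trI R 2 N := pow_mem_add p (n + 1) Y Z hY hZ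
    have h0N : (0 : MvPolynomial (Fin 2) R) ^ N ∈ trI R 2 N := by rw [zero_pow hN0.ne']; exact Ideal.zero_mem _
    have hv : ∀ a b : MvPolynomial (Fin 2) R, a ^ N ∈ trI R 2 N → b ^ N ∈ trI R 2 N → ∀ i, (![a, b] i) ^ N ∈ trI R 2 N :=
      fun a b ha hb i => by fin_cases i <;> assumption
    let ev : (a b : MvPolynomial (Fin 2) R) → MvPolynomial (Fin 2) R →ₐ[R] MvPolynomial (Fin 2) R :=
      fun a b => aeval ![a, b]
    have hsymm : q (ev Z Y h) = q h := Ideal.Quotient.eq.2 hh.symm
    have hleft : q (ev 0 Y h) = 1 := by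
      have h1 := map_eq (φ := ev Y 0) (map_sub _) (fun a ha => aeval_mem _ (hv _ _ hY h0N) ha) hsymm
      have h2 : ev Y 0 (ev Z Y h) = ev 0 Y h := by
        show aeval ![Y, 0] (aeval ![Z, Y] h) = aeval ![0, Y] h
        rw [← AlgHom.comp_apply, comp_aeval]
        congr 2
        funext i
        fin_cases i <;> simp [Y, Z]
      rw [h2] at h1
      exact h1.trans (Ideal.Quotient.eq.2 hh.norm)
    -- the logarithmic derivative
    let φ : Polynomial R := aeval ![0, Polynomial.X] (pderiv 0 h)
    have hφ : ∀ v : MvPolynomial (Fin 2) R, Polynomial.aeval v φ = ev 0 v (pderiv 0 h) := fun v => by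
      show Polynomial.aeval v (aeval ![0, Polynomial.X] (pderiv 0 h)) = aeval ![0, v] (pderiv 0 h)
      rw [← AlgHom.comp_apply, comp_aeval]
      congr 2
      funext i
      fin_cases i <;> simp
    let g := Polynomial.aeval (Y + Z) φ - Polynomial.aeval Y φ
    have hg : q (pderiv 0 h) = q (h * g) := by
      let e : MvPolynomial (Fin 3) R →ₐ[R] MvPolynomial (Fin 2) R := aeval ![0, Y, Z]
      have h1 := aeval_mem (I := trI R 2 N) ![0, Y, Z] (fun i => by fin_cases i <;> assumption)
        (pderiv_mem hN 0 hh.coc)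
      have he : ∀ (a b : MvPolynomial (Fin 3) R) (P : MvPolynomial (Fin 2) R),
          e (aeval ![a, b] P) = ev (e a) (e b) P := fun a b P => by
        show aeval ![0, Y, Z] (aeval ![a, b] P) = _
        rw [← AlgHom.comp_apply, comp_aeval]
        show _ = aeval ![e a, e b] P
        congr 2
        funext i
        fin_cases i <;> rfl
      have h2 : e (pderiv 0 (aeval ![(X 1 : MvPolynomial (Fin 3) R), X 2] h * aeval ![X 0, X 1 + X 2] h -
          aeval ![X 0 + X 1, X 2] h * aeval ![X 0, X 1] h)) ∈ trI R 2 N := h1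
      have hid : ev Y Z h = h ∧ ev Y Z (pderiv 0 h) = pderiv 0 h := by
        have : ev Y Z = AlgHom.id R _ := by ext i; fin_cases i <;> simp [ev, Y, Z]
        rw [this]; exact ⟨rfl, rfl⟩
      simp [pderiv_mul, pderiv_aeval, Fin.sum_univ_two, he, pderiv_X_of_ne] at h2
      have h3 := Ideal.Quotient.eq_zero_iff_mem.2 h2
      simp [e] at h3
      rw [hid.1, hid.2, ← hφ, ← hφ] at h3
      show q (pderiv 0 h) = q (h * (Polynomial.aeval (Y + Z) φ - Polynomial.aeval Y φ))
      have h4 : q (ev 0 Y h) = 1 := hleft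
      simp only [map_mul, map_sub, map_add] at h3 ⊢
      linear_combination -h3 + (- q (pderiv 0 h)) * h4
    -- the curvature
    obtain ⟨hinv, hinv'⟩ : ∃ h', q (h * h') = 1 := by
      have hnil : ∀ P : MvPolynomial (Fin 2) R, IsNilpotent (q (P - C (constantCoeff P))) := fun P => by
        induction P using MvPolynomial.induction_on with
        | C a => simp
        | add P Q hP hQ =>
          rw [map_add, map_add, add_sub_add_comm, map_add]
          exact (Commute.all _ _).isNilpotent_add hP hQ
        | mul_X P i hP =>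
          rw [map_mul, constantCoeff_X, mul_zero, map_zero, sub_zero, map_mul]
          exact (Commute.all _ _).isNilpotent_mul_left ⟨N, by rw [← map_pow]; exact Ideal.Quotient.eq_zero_iff_mem.2 (X_pow_mem 2 N i)⟩
      have hc : constantCoeff h = 1 := by
        have h1 := aeval_mem (S := R) (I := ⊥) (fun _ => (0 : R)) (fun _ => by simp [zero_pow hN0.ne']) hh.norm
        rw [Ideal.mem_bot, map_sub, map_one, ← AlgHom.comp_apply, comp_aeval, sub_eq_zero] at h1
        rw [← h1, show constantCoeff h = aeval (fun _ => (0 : R)) h by simp [aeval_zero']]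
        congr 2
        funext i
        fin_cases i <;> simp
      have h1 := (hnil h).isUnit_add_one
      rw [hc, map_one, map_sub, map_one, sub_add_cancel] at h1
      obtain ⟨b, hb⟩ := h1.exists_right_inv
      obtain ⟨h', rfl⟩ := Ideal.Quotient.mk_surjective b
      exact ⟨h', by rw [map_mul, hb]⟩
    let K := cu Polynomial.derivative' φ p
    have hcu : q (cu (pderiv 0) g p) = 0 := by
      have h1 : ∀ k, q ((⇑(pderiv 0))^[k] h) = q (h * cu (pderiv 0) g k) := fun k => by
        induction k with
        | zero => simp [cu]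
        | succ k ihk =>
          rw [Function.iterate_succ_apply', map_eq (φ := pderiv 0) (map_sub _) (fun a ha => pderiv_mem hN 0 ha) ihk]
          show _ = q (h * (pderiv 0 (cu (pderiv 0) g k) + g * cu (pderiv 0) g k))
          rw [pderiv_mul, map_add, map_mul, map_mul]
          show q (pderiv 0 h) * q _ + q h * q _ = _
          rw [hg, map_mul, map_mul, map_add, map_mul]
          ring
      have h2 := h1 p
      rw [iterate_pderiv_eq_zero p, map_zero] at h2
      calc q (cu (pderiv 0) g p) = q (h * hinv) * q (cu (pderiv 0) g p) := by rw [hinv', one_mul]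
        _ = q hinv * q (h * cu (pderiv 0) g p) := by rw [map_mul, map_mul]; ring
        _ = 0 := by rw [← h2, mul_zero]
    have hK : qJ K = qJ (Polynomial.C (K.coeff 0)) := by
      have hd : ∀ v : MvPolynomial (Fin 2) R, pderiv 0 v = 1 → ∀ P : Polynomial R,
          pderiv 0 (Polynomial.aeval v P) = Polynomial.aeval v (Polynomial.derivative' P) := fun v hv P => by
        exact (pderiv_paeval 0 v P).trans (by rw [hv, mul_one]; rfl)
      have h1 : q (Polynomial.aeval (Y + Z) K) = q (Polynomial.aeval Y K) := by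
        rw [cu_map _ (pderiv 0) _ (hd _ (by simp [Y, Z, pderiv_X_of_ne])), cu_map _ (pderiv 0) _ (hd _ (by simp [Y]))]
        have h2 := hcu
        rw [show g = Polynomial.aeval (Y + Z) φ + -Polynomial.aeval Y φ from sub_eq_add_neg _ _,
          cu_add_prime, cu_neg_prime, ← sub_eq_add_neg, map_sub, sub_eq_zero] at h2
        exact h2
      have h3 := map_eq (φ := aeval (R := R) ![(0 : Polynomial R), Polynomial.X]) (map_sub _)
        (fun a ha => aeval_mem (I := trJ R N) _ (fun i => by
          fin_cases i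
          · simp [zero_pow hN0.ne']
          · exact Ideal.mem_span_singleton_self _) ha) h1
      have key : ∀ v : MvPolynomial (Fin 2) R, aeval ![(0 : Polynomial R), Polynomial.X] (Polynomial.aeval v K) =
          Polynomial.aeval (aeval ![(0 : Polynomial R), Polynomial.X] v) K :=
        fun v => (Polynomial.aeval_algHom_apply _ _ _).symm
      rw [key, key] at h3
      simp only [Y, Z, map_add, aeval_X, Matrix.cons_val_zero, Matrix.cons_val_one, zero_add] at h3
      rw [Polynomial.aeval_X_left_apply, ← Polynomial.coeff_zero_eq_aeval_zero', Polynomial.algebraMap_eq] at h3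
      exact h3
    obtain ⟨s, hs⟩ := hF (-K.coeff 0)
    let ψ := φ + Polynomial.C s
    have hψ : cu Polynomial.derivative' ψ p ∈ trJ R N := by
      rw [← Ideal.Quotient.eq_zero_iff_mem, cu_add_prime, cu_const Polynomial.derivative' (c := Polynomial.C s) (by simp), ← map_pow, map_add]
      rw [frobenius_def] at hs
      show qJ K + qJ _ = 0
      rw [hK, hs, map_neg, map_neg, add_neg_cancel]
    obtain ⟨f, hf0, hf⟩ := exists_horizontal p hN hN0 ψ hψ
    obtain ⟨fi, hfi⟩ := exists_inverse (N := N) f hf0
    have hfi' : qJ (Polynomial.derivative fi) = -(qJ ψ * qJ fi) := by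
      have h1 := map_eq (φ := Polynomial.derivative (R := R)) (map_sub _) (fun a ha => derivative_mem hN ha)
        (hfi.trans (map_one _).symm)
      rw [Polynomial.derivative_mul, Polynomial.derivative_one, map_zero, map_add, map_mul, map_mul,
        show qJ (Polynomial.derivative f) = qJ (ψ * f) from Ideal.Quotient.eq.2 hf, map_mul] at h1
      rw [map_mul] at hfi
      linear_combination (qJ fi) * h1 - (qJ (Polynomial.derivative fi) + qJ ψ * qJ fi) * hfi
    have toI : ∀ (v : MvPolynomial (Fin 2) R), v ^ N ∈ trI R 2 N → ∀ {a b : Polynomial R}, qJ a = qJ b →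
        q (Polynomial.aeval v a) = q (Polynomial.aeval v b) := fun v hv a b hab =>
      map_eq (map_sub _) (fun c hc => paeval_mem v hv hc) hab
    let k := h * Polynomial.aeval Y f * Polynomial.aeval Z f * Polynomial.aeval (Y + Z) fi
    have hk0 : q (pderiv 0 k) = 0 := by
      have e1 := toI Y hY (show qJ (Polynomial.derivative f) = qJ (ψ * f) from Ideal.Quotient.eq.2 hf)
      have e2 := toI (Y + Z) hYZ (show qJ (Polynomial.derivative fi) = qJ (-(ψ * fi)) by rw [hfi', map_neg, map_mul])
      simp only [k, pderiv_mul, pderiv_paeval, map_add, map_mul, hg, map_neg] at e1 e2 ⊢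
      simp only [g, ψ, Y, Z, map_sub, map_add, map_mul, Polynomial.aeval_C, pderiv_X_self,
        pderiv_X_of_ne (show (1 : Fin 2) ≠ 0 by decide), map_one, map_zero] at e1 e2 ⊢
      rw [e1, e2]
      ring
    have hsw : q (ev Z Y k) = q k := by
      simp only [k, map_mul, hsymm, ← Polynomial.aeval_algHom_apply]
      simp only [ev, Y, Z, map_add, aeval_X, Matrix.cons_val_zero, Matrix.cons_val_one]
      rw [add_comm (X 1 : MvPolynomial (Fin 2) R)]
      ring
    have hk1 : q (pderiv 1 k) = 0 := by
      rw [← map_eq (φ := pderiv 1) (map_sub _) (fun a ha => pderiv_mem hN 1 ha) hsw]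
      show q (pderiv 1 (aeval ![Z, Y] k)) = 0
      rw [pderiv_aeval, Fin.sum_univ_two]
      simp only [Y, Z, Matrix.cons_val_zero, Matrix.cons_val_one]
      rw [pderiv_X_self, pderiv_X_of_ne (show (0 : Fin 2) ≠ 1 by decide), mul_one, mul_zero, add_zero]
      exact (map_eq (φ := ev Z Y) (map_sub _) (fun a ha => aeval_mem _ (hv _ _ hZ hY) ha)
        (hk0.trans (map_zero q).symm)).trans (by rw [map_zero, map_zero])
    obtain ⟨k', hk'⟩ := exists_expand p (N := p ^ n) k (fun i => by
      rw [← pow_succ, ← Ideal.Quotient.eq_zero_iff_mem]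
      fin_cases i <;> assumption)
    rw [← pow_succ] at hk'
    have hk : q k = q (expand p k') := Ideal.Quotient.eq.2 hk'
    have hf3 : ∀ (m : ℕ) (v : MvPolynomial (Fin m) R), v ^ N ∈ trI R m N →
        Ideal.Quotient.mk (trI R m N) (Polynomial.aeval v f * Polynomial.aeval v fi) = 1 := fun m v hv => by
      rw [← map_mul]
      exact (map_eq (map_sub _) (fun c hc => paeval_mem v hv hc) (hfi.trans (map_one _).symm)).trans
        (by rw [map_one, map_one])
    have hk'c : IsCocycle (p ^ n) k' := by
      have hadd : ∀ (m : ℕ) (i j : Fin m), expand p (X i + X j : MvPolynomial (Fin m) R) = (X i + X j) ^ p := fun m i j => by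
        haveI : CharP (MvPolynomial (Fin m) R) p := inferInstance
        rw [map_add, expand_X, expand_X, add_pow_char]
      refine ⟨of_expand p _ ?_, of_expand p _ ?_, of_expand p _ ?_⟩
      · rw [← pow_succ, map_sub, expand_aeval p _ (fun i => by fin_cases i <;> simp), ← Ideal.Quotient.eq]
        exact (map_eq (φ := ev Z Y) (map_sub _) (fun a ha => aeval_mem _ (hv _ _ hZ hY) ha) hk.symm).trans (hsw.trans hk)
      · rw [← pow_succ, map_sub, map_mul, map_mul,
          expand_aeval p _ (fun i => by fin_cases i <;> simp), expand_aeval p _ (fun i => by fin_cases i <;> simp [hadd]),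
          expand_aeval p _ (fun i => by fin_cases i <;> simp [hadd]), expand_aeval p _ (fun i => by fin_cases i <;> simp),
          ← Ideal.Quotient.eq]
        let q3 := Ideal.Quotient.mk (trI R 3 N)
        have hX : ∀ i, (X i : MvPolynomial (Fin 3) R) ^ N ∈ trI R 3 N := X_pow_mem 3 N
        have hs12 : (X 1 + X 2 : MvPolynomial (Fin 3) R) ^ N ∈ trI R 3 N := pow_mem_add p (n + 1) _ _ (hX 1) (hX 2)
        have hs01 : (X 0 + X 1 : MvPolynomial (Fin 3) R) ^ N ∈ trI R 3 N := pow_mem_add p (n + 1) _ _ (hX 0) (hX 1)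
        have tr : ∀ a b : MvPolynomial (Fin 3) R, a ^ N ∈ trI R 3 N → b ^ N ∈ trI R 3 N →
            q3 (aeval ![a, b] (expand p k')) = q3 (aeval ![a, b] k) := fun a b ha hb =>
          map_eq (map_sub _) (fun c hc => aeval_mem _ (fun i => by fin_cases i <;> assumption) hc) hk.symm
        have hc := (Ideal.Quotient.eq (I := trI R 3 N)).2 hh.coc
        have u12 := hf3 3 _ hs12
        have u01 := hf3 3 _ hs01
        rw [map_mul, map_mul, tr _ _ (hX 1) (hX 2), tr _ _ (hX 0) hs12, tr _ _ hs01 (hX 2), tr _ _ (hX 0) (hX 1)]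
        simp only [k, Y, Z, map_mul, ← Polynomial.aeval_algHom_apply, map_add, aeval_X, Matrix.cons_val_zero,
          Matrix.cons_val_one] at hc u12 u01 ⊢
        rw [← add_assoc]
        linear_combination
          (q3 (Polynomial.aeval (X 0) f) * q3 (Polynomial.aeval (X 1) f) * q3 (Polynomial.aeval (X 2) f) *
            q3 (Polynomial.aeval (X 0 + X 1 + X 2) fi)) * hc
          + (q3 (aeval ![X 1, X 2] h) * q3 (aeval ![X 0, X 1 + X 2] h) * q3 (Polynomial.aeval (X 0) f) *
              q3 (Polynomial.aeval (X 1) f) * q3 (Polynomial.aeval (X 2) f) *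
              q3 (Polynomial.aeval (X 0 + X 1 + X 2) fi)) * u12
          - (q3 (aeval ![X 0 + X 1, X 2] h) * q3 (aeval ![X 0, X 1] h) * q3 (Polynomial.aeval (X 0) f) *
              q3 (Polynomial.aeval (X 1) f) * q3 (Polynomial.aeval (X 2) f) *
              q3 (Polynomial.aeval (X 0 + X 1 + X 2) fi)) * u01
      · rw [← pow_succ, map_sub, map_one, expand_aeval p _ (fun i => by fin_cases i <;> simp [hp.out.ne_zero]),
          ← Ideal.Quotient.eq]
        refine (map_eq (φ := ev Y 0) (map_sub _) (fun a ha => aeval_mem _ (hv _ _ hY h0N) ha) hk.symm).trans ?_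
        have hn : q (ev Y 0 h) = 1 := Ideal.Quotient.eq.2 hh.norm
        have u1 := hf3 2 Y hY
        simp only [k, map_mul, ← Polynomial.aeval_algHom_apply] at u1 ⊢
        simp [ev, Y, Z, ← Polynomial.coeff_zero_eq_aeval_zero', hf0] at hn u1 ⊢
        rw [hn, one_mul]
        exact u1
    obtain ⟨f', hf'0, hf'⟩ := ih k' hk'c
    refine ⟨f * Polynomial.expand R p f', by simp [Polynomial.mul_coeff_zero, Polynomial.coeff_expand hp.out.pos, hf0, hf'0], ?_⟩
    have h1 : expand p (Polynomial.aeval (Y + Z) f' - Polynomial.aeval Y f' * Polynomial.aeval Z f' * k') ∈ trI R 2 N := by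
      have h2 : (trI R 2 (p ^ n)) ≤ (trI R 2 N).comap (expand p (σ := Fin 2) (R := R)) := Ideal.span_le.2 (by
        rintro _ ⟨i, rfl⟩
        show expand p ((X i : MvPolynomial (Fin 2) R) ^ p ^ n) ∈ trI R 2 N
        rw [map_pow, expand_X, ← pow_mul, ← pow_succ']
        exact X_pow_mem 2 N i)
      exact h2 hf'
    have he : ∀ v : MvPolynomial (Fin 2) R, expand p v = v ^ p →
        expand p (Polynomial.aeval v f') = Polynomial.aeval v (Polynomial.expand R p f') := fun v hv => by
      rw [← Polynomial.aeval_algHom_apply, hv, Polynomial.expand_aeval]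
    rw [← Ideal.Quotient.eq_zero_iff_mem, map_sub, map_mul, map_mul,
      he _ (by rw [map_add, expand_X, expand_X, add_pow_char]), he _ (expand_X _ _), he _ (expand_X _ _)] at h1
    rw [← Ideal.Quotient.eq_zero_iff_mem]
    have u := hf3 2 _ hYZ
    show q _ = 0
    simp only [map_sub, map_mul] at h1 u ⊢
    have hk2 := hk
    simp only [k, map_mul] at hk2
    rw [← hk2] at h1
    linear_combination q (Polynomial.aeval (Y + Z) f) * h1
      + (q h * q (Polynomial.aeval Y f) * q (Polynomial.aeval Z f) *
          q (Polynomial.aeval Y (Polynomial.expand R p f')) * q (Polynomial.aeval Z (Polynomial.expand R p f'))) * u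

end Prime

end Groth.Agent.GaPerf23.AlphaCocycle
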