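import Groth.Agent.GaPerf23.PicTorsion

/-!
# The Picard group of a ring that is perfect modulo nilpotents has no `p`-torsion
-/

set_option autoImplicit false

universe u

open TensorProduct Module

namespace Groth.Agent.GaPerf23.PicTorsion

theorem eq_one_of_pow_eq_one_perfect (p : ℕ) [Fact p.Prime] {S T : Type u} [CommRing S] [CommRing T]
    [CharP T p] [IsReduced T] (hF : Function.Surjective (frobenius T p)) (π : S →+* T)
    (hπ : Function.Surjective π) (hnil : ∀ s, π s = 0 → IsNilpotent s)
    (M : Type u) [AddCommGroup M] [Module S M] [Module.Invertible S M]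
    (h : CommRing.Pic.mk S M ^ p = 1) : Nonempty (M ≃ₗ[S] S) := by
  have hp : 0 < p := (Fact.out : p.Prime).pos
  obtain ⟨δ, hδ, hspan⟩ := exists_diag (S := S) (M := M) p
  obtain ⟨e⟩ := CommRing.Pic.mk_eq_one_iff.1
    ((CommRing.Pic.mk_eq_self (M := (CommRing.Pic.mk S M) ^ p)).trans h)
  let μ : M → T := fun m => π (e (δ m))
  have hμ : ∀ (s : S) (m : M), μ (s • m) = π s ^ p * μ m := fun s m => by
    show π (e (δ (s • m))) = _
    rw [hδ, map_smul, smul_eq_mul, map_mul, map_pow]
  have hspan' : ∀ (I : Ideal T), (∀ m, μ m ∈ I) → I = ⊤ := fun I hI => by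
    have h1 : ∀ z, π (e z) ∈ I := fun z => by
      have hz : z ∈ Submodule.span S (Set.range δ) := hspan ▸ Submodule.mem_top
      induction hz using Submodule.span_induction with
      | mem z hz => obtain ⟨m, rfl⟩ := hz; exact hI m
      | zero => rw [map_zero, map_zero]; exact I.zero_mem
      | add a b _ _ ha hb => rw [map_add, map_add]; exact I.add_mem ha hb
      | smul c a _ ha => rw [map_smul, smul_eq_mul, map_mul]; exact I.mul_mem_left _ ha
    rw [Ideal.eq_top_iff_one]
    simpa using h1 (e.symm 1)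
  have hloc : ∀ (φ : Module.Dual S M) (a x : M), π (φ a) ^ p * μ x = π (φ x) ^ p * μ a := fun φ a x => by
    rw [← hμ, ← hμ, swap φ a x]
  have hadd : ∀ x y, μ (x + y) = μ x + μ y := fun x y => sub_eq_zero.1 <|
    eq_zero_of_forall (M := M) π p _ fun φ a => by
      rw [mul_sub, mul_add, hloc φ a, hloc φ a, hloc φ a, map_add, map_add, add_pow_char, add_mul, sub_self]
  -- the pth root
  choose ν hν' using fun m => hF (μ m)
  have hν : ∀ m, ν m ^ p = μ m := fun m => (frobenius_def ..).symm.trans (hν' m)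
  have hinj : ∀ t t' : T, t ^ p = t' ^ p → t = t' := fun t t' ht =>
    sub_eq_zero.1 (IsReduced.eq_zero _ ⟨p, by rw [sub_pow_char, ht, sub_self]⟩)
  have hνadd : ∀ x y, ν (x + y) = ν x + ν y := fun x y => hinj _ _ (by rw [add_pow_char, hν, hν, hν, hadd])
  have hνsmul : ∀ (s : S) x, ν (s • x) = π s * ν x := fun s x => hinj _ _ (by rw [mul_pow, hν, hν, hμ])
  letI : Algebra S T := π.toAlgebra
  let ν' : M →ₗ[S] T := { toFun := ν, map_add' := hνadd, map_smul' := hνsmul }
  let q : S →ₗ[S] T := Algebra.linearMap S T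
  obtain ⟨φ, hφ⟩ := Module.projective_lifting_property q ν' hπ
  have htop : Ideal.map π (LinearMap.range φ : Ideal S) = ⊤ := by
    refine hspan' _ fun m => ?_
    rw [← hν m, show ν m = π (φ m) from (LinearMap.congr_fun hφ m).symm]
    exact Ideal.pow_mem_of_mem _ (Ideal.mem_map_of_mem π (LinearMap.mem_range_self φ m)) p hp
  have hsurj : Function.Surjective φ := by
    rw [← LinearMap.range_eq_top]
    obtain ⟨c, hc, hc1⟩ := (Ideal.mem_map_iff_of_surjective π hπ).1 (htop ▸ Submodule.mem_top (x := (1 : T)))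
    refine Ideal.eq_top_of_isUnit_mem _ hc ?_
    have hu := (hnil (c - 1) (by rw [map_sub, map_one, hc1, sub_self])).isUnit_add_one
    rwa [sub_add_cancel] at hu
  exact ⟨LinearEquiv.ofBijective φ (Module.Invertible.bijective_of_surjective hsurj)⟩

end Groth.Agent.GaPerf23.PicTorsion
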