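import Groth.Agent.GaPerf23.GaLift
import Groth.Agent.GaPerf23.PicTorsionPerfect
import Groth.Agent.GaPerf23.AlphaCocycle
import Groth.Prelude.Def_AlphaPn
import Mathlib.AlgebraicGeometry.Group.Affine

/-!
# Homomorphisms from `α_{p^n}` lift when Frobenius is surjective
-/

set_option autoImplicit false
set_option linter.all false
set_option backward.isDefEq.respectTransparency false
set_option backward.isDefEq.respectTransparency.types false
set_option synthInstance.maxHeartbeats 400000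
set_option maxHeartbeats 1000000

universe u

open CategoryTheory CategoryTheory.Limits CategoryTheory.Abelian AlgebraicGeometry Opposite MonObj CartesianMonoidalCategory
open MonoidalCategory

namespace Groth.Agent.GaPerf23.Alpha

open Groth.Agent.SGA3cLib Groth.Agent.CAlgH3.FppfPicLocal Groth.Agent.GaGmQuot Groth.Agent.CAlgH3.GaGmExt
open Groth.Agent.GaPerf23.AlphaCocycle

local notation "K₀" => Scheme.fppfPrecoverage

variable {R : Type u} [CommRing R] (p : ℕ) [Fact p.Prime] [CharP R p] (n : ℕ)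

/-- The group `α_{p^n}` over `R`. -/
noncomputable abbrev al : Over (Spec (CommRingCat.of R)) :=
  (Spec (CommRingCat.of (AlphaPn.A p n R))).asOver (Spec (CommRingCat.of R))

theorem map_structure (Y : Over (Spec (CommRingCat.of R))) {S : Type u} [CommRing S] [Algebra R S] (ev : S →+* Γ(Y.left, ⊤))
    (hev : ev.comp (algebraMap R S) = sc Y) :
    (Y.left.toSpecΓ ≫ Spec.map (CommRingCat.ofHom ev)) ≫ Spec.map (CommRingCat.ofHom (algebraMap R S)) = Y.hom := by
  rw [Category.assoc, ← Spec.map_comp, ← CommRingCat.ofHom_comp, hev,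
    show CommRingCat.ofHom (sc Y) = (Scheme.ΓSpecIso (CommRingCat.of R)).inv ≫ Y.hom.appTop from rfl,
    Spec.map_comp, ← Scheme.toSpecΓ_naturality_assoc, ← SpecMap_ΓSpecIso_hom, ← Spec.map_comp,
    Iso.inv_hom_id, Spec.map_id, Category.comp_id]

theorem appTop_toSpec (Y : Over (Spec (CommRingCat.of R))) {S : Type u} [CommRing S] (ev : S →+* Γ(Y.left, ⊤)) (s : S) :
    (Y.left.toSpecΓ ≫ Spec.map (CommRingCat.ofHom ev)).appTop.hom ((Scheme.ΓSpecIso (CommRingCat.of S)).inv.hom s) =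
      ev s := by
  rw [Scheme.Hom.comp_appTop, Scheme.toSpecΓ_appTop]
  exact ConcreteCategory.congr_hom (show ((Scheme.ΓSpecIso (CommRingCat.of S)).inv ≫
    (Spec.map (CommRingCat.ofHom ev)).appTop) ≫ (Scheme.ΓSpecIso Γ(Y.left, ⊤)).hom = CommRingCat.ofHom ev by
      rw [← Scheme.ΓSpecIso_inv_naturality, Category.assoc]
      exact (congrArg (CommRingCat.ofHom ev ≫ ·) (Iso.inv_hom_id _)).trans (Category.comp_id _)) s

/-- The ring map of a point. -/
noncomputable def ptFn {Y : Over (Spec (CommRingCat.of R))} (a : Y ⟶ al p n) : AlphaPn.A p n R →+* Γ(Y.left, ⊤) :=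
  ((Scheme.ΓSpecIso (CommRingCat.of (AlphaPn.A p n R))).inv ≫ a.left.appTop).hom

theorem ptFn_algebraMap {Y : Over (Spec (CommRingCat.of R))} (a : Y ⟶ al p n) :
    (ptFn p n a).comp (algebraMap R (AlphaPn.A p n R)) = sc Y := by
  show (CommRingCat.ofHom (algebraMap R (AlphaPn.A p n R)) ≫ (Scheme.ΓSpecIso (CommRingCat.of (AlphaPn.A p n R))).inv ≫
    a.left.appTop).hom = _
  rw [Scheme.ΓSpecIso_inv_naturality_assoc, ← Scheme.Hom.comp_appTop,
    show a.left ≫ Spec.map (CommRingCat.ofHom (algebraMap R (AlphaPn.A p n R))) = Y.hom from Over.w a]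
  rfl

theorem ptFn_injective {Y : Over (Spec (CommRingCat.of R))} {a b : Y ⟶ al p n} (h : ptFn p n a = ptFn p n b) : a = b := by
  have key : ∀ c : Y.left ⟶ Spec (CommRingCat.of (AlphaPn.A p n R)), c = Y.left.toSpecΓ ≫
      Spec.map ((Scheme.ΓSpecIso (CommRingCat.of (AlphaPn.A p n R))).inv ≫ c.appTop) := fun c => by
    rw [Spec.map_comp, ← Scheme.toSpecΓ_naturality_assoc, ← SpecMap_ΓSpecIso_hom, ← Spec.map_comp, Iso.inv_hom_id,
      Spec.map_id, Category.comp_id]
  refine Over.OverMorphism.ext ((key a.left).trans (Eq.trans ?_ (key b.left).symm))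
  exact congrArg (fun r => Y.left.toSpecΓ ≫ Spec.map r) (CommRingCat.hom_ext h)

/-- The coordinate of a point. -/
noncomputable def co {Y : Over (Spec (CommRingCat.of R))} (a : Y ⟶ al p n) : Γ(Y.left, ⊤) :=
  ptFn p n a (AlphaPn.x p n R)

theorem co_injective {Y : Over (Spec (CommRingCat.of R))} {a b : Y ⟶ al p n} (h : co p n a = co p n b) : a = b := by
  letI : Algebra R Γ(Y.left, ⊤) := (sc Y).toAlgebra
  refine ptFn_injective p n ?_
  let A1 : AlphaPn.A p n R →ₐ[R] Γ(Y.left, ⊤) :=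
    { ptFn p n a with commutes' := RingHom.congr_fun (ptFn_algebraMap p n a) }
  let A2 : AlphaPn.A p n R →ₐ[R] Γ(Y.left, ⊤) :=
    { ptFn p n b with commutes' := RingHom.congr_fun (ptFn_algebraMap p n b) }
  exact congrArg AlgHom.toRingHom (show A1 = A2 from AlphaPn.algHom_ext h)

theorem co_pow {Y : Over (Spec (CommRingCat.of R))} (a : Y ⟶ al p n) : co p n a ^ p ^ n = 0 := by
  rw [co, ← map_pow, AlphaPn.x_pow, map_zero]

theorem co_comp {Y Y' : Over (Spec (CommRingCat.of R))} (m : Y' ⟶ Y) (a : Y ⟶ al p n) :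
    co p n (m ≫ a) = m.left.appTop.hom (co p n a) := rfl

theorem exists_co {Y : Over (Spec (CommRingCat.of R))} (r : Γ(Y.left, ⊤)) (hr : r ^ p ^ n = 0) :
    ∃ a : Y ⟶ al p n, co p n a = r := by
  letI : Algebra R Γ(Y.left, ⊤) := (sc Y).toAlgebra
  let ev := AlphaPn.lift p n R r hr
  refine ⟨Over.homMk (Y.left.toSpecΓ ≫ Spec.map (CommRingCat.ofHom ev.toRingHom))
    (map_structure Y ev.toRingHom ev.comp_algebraMap), ?_⟩
  exact (appTop_toSpec Y ev.toRingHom _).trans (AlphaPn.lift_x r hr)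

theorem co_mul {Y : Over (Spec (CommRingCat.of R))} (a b : Y ⟶ al p n) : co p n (a * b) = co p n a + co p n b := by
  letI : Algebra R Γ(Y.left, ⊤) := (sc Y).toAlgebra
  let U : Over (Spec (CommRingCat.of R)) := (Spec (CommRingCat.of Γ(Y.left, ⊤))).asOver (Spec (CommRingCat.of R))
  let u : Y ⟶ U := Over.homMk Y.left.toSpecΓ (by
    have h := map_structure (S := Γ(Y.left, ⊤)) Y (RingHom.id _) (RingHom.id_comp _)
    rw [CommRingCat.ofHom_id, Spec.map_id] at h
    exact (congrArg (· ≫ _) (Category.comp_id _)).symm.trans h)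
  let P : ∀ c : Y ⟶ al p n, AlphaPn.A p n R →ₐ[R] Γ(Y.left, ⊤) := fun c =>
    { ptFn p n c with commutes' := RingHom.congr_fun (ptFn_algebraMap p n c) }
  let pt : WithConv (AlphaPn.A p n R →ₐ[R] Γ(Y.left, ⊤)) ≃* (U ⟶ al p n) := Spec.mapMulEquiv
  have hu : ∀ φ, co p n (u ≫ pt (WithConv.toConv φ)) = φ (AlphaPn.x p n R) := fun φ => appTop_toSpec Y φ.toRingHom _
  have hc : ∀ c : Y ⟶ al p n, c = u ≫ pt (WithConv.toConv (P c)) := fun c => co_injective p n (by rw [hu]; rfl)
  conv_lhs => rw [hc a, hc b, ← MonObj.comp_mul, ← map_mul]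
  rw [← WithConv.toConv_ofConv (WithConv.toConv (P a) * WithConv.toConv (P b)), hu]
  simp only [AlgHom.convMul_def, WithConv.ofConv_toConv, AlgHom.comp_apply]
  rw [AlphaPn.comulAlgHom_eq, AlphaPn.comulAlg_x, map_add, map_add]
  simp [P]
  rfl

theorem co_one {Y : Over (Spec (CommRingCat.of R))} : co p n (1 : Y ⟶ al p n) = 0 := by
  have h := co_mul p n (1 : Y ⟶ al p n) 1
  rw [_root_.one_mul] at h
  exact left_eq_add.1 h

theorem nsmul_pts {Y : Over (Spec (CommRingCat.of R))} (a : (CGrpSh.pts K₀ (al (R := R) p n)).obj.obj (op Y)) :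
    p • a = 0 := by
  refine ULift.ext _ _ ?_
  refine Additive.toMul.injective (co_injective p n ?_)
  show co p n (a.down.toMul ^ p) = co p n (1 : Y ⟶ al p n)
  have h : ∀ k : ℕ, co p n (a.down.toMul ^ k) = (k : Γ(Y.left, ⊤)) * co p n a.down.toMul := fun k => by
    induction k with
    | zero => rw [pow_zero, co_one, Nat.cast_zero, zero_mul]
    | succ k ih => rw [pow_succ, co_mul, ih, Nat.cast_succ]; ring
  rw [h, co_one, ← map_natCast (sc Y), CharP.cast_eq_zero, map_zero, zero_mul]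

variable (hF : Function.Surjective (frobenius R p))

include hF in
theorem pic_al (a : PicLib.PicM (al (R := R) p n).left) (ha : a ^ p = 1) : a = 1 := by
  let R' := R ⧸ nilradical R
  let q : R →+* R' := Ideal.Quotient.mk _
  have hq : Function.Surjective q := Ideal.Quotient.mk_surjective
  haveI : Nontrivial R := CharP.nontrivial_of_char_ne_one (Fact.out : p.Prime).ne_one
  haveI : CharP R' p := CharP.quotient' p _ fun x hx => by
    obtain ⟨m, hm⟩ := mem_nilradical.1 hx
    by_contra h0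
    have h1 : IsUnit (x : R) := (CharP.isUnit_natCast_iff (Fact.out : p.Prime)).2 fun h2 =>
      h0 ((CharP.cast_eq_zero_iff R p x).2 h2)
    exact (h1.pow m).ne_zero hm
  haveI : IsReduced R' := (Ideal.isRadical_iff_quotient_reduced _).1 (Ideal.radical_isRadical ⊥)
  have hF' : Function.Surjective (frobenius R' p) := fun x => by
    obtain ⟨x, rfl⟩ := hq x
    obtain ⟨y, rfl⟩ := hF x
    exact ⟨q y, by rw [frobenius_def, frobenius_def, map_pow]⟩
  let π : AlphaPn.A p n R →+* R' := q.comp (AlphaPn.counitAlg p n R).toRingHom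
  refine picM_eq_one_of_pow_eq_one (A := CommRingCat.of (AlphaPn.A p n R)) p (fun M _ _ _ h =>
    PicTorsion.eq_one_of_pow_eq_one_perfect p hF' π (fun x => ?_) (fun s hs => ?_) M h) (Iso.refl _) a ha
  · obtain ⟨x, rfl⟩ := hq x
    exact ⟨algebraMap R _ x, congrArg q ((AlphaPn.counitAlg p n R).commutes x)⟩
  · obtain ⟨P, rfl⟩ := AlphaPn.mk_surjective p n R s
    have hc : IsNilpotent (P.coeff 0) := by
      refine mem_nilradical.1 (Ideal.Quotient.eq_zero_iff_mem.1 (Eq.trans ?_ hs))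
      show q (P.coeff 0) = q (AlphaPn.counitAlg p n R (AlphaPn.mk p n R P))
      rw [← AlphaPn.aeval_x, ← Polynomial.aeval_algHom_apply, AlphaPn.counitAlg_x, ← Polynomial.coeff_zero_eq_aeval_zero]
    have hx : IsNilpotent (AlphaPn.mk p n R Polynomial.X) := ⟨p ^ n, by rw [AlphaPn.mk_X, AlphaPn.x_pow]⟩
    rw [← Polynomial.X_mul_divX_add P, map_add, map_mul]
    exact (Commute.all _ _).isNilpotent_add ((Commute.all _ _).isNilpotent_mul_right hx)
      ((hc.map Polynomial.C).map _)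

variable {F G : BigSite.Ab K₀ (Spec (CommRingCat.of R))}
  (f : CGrpSh.pts K₀ (Red.Gm (Spec (CommRingCat.of R))) ⟶ F) (g : F ⟶ G) (w : f ≫ g = 0)
  (hS : (ShortComplex.mk f g w).ShortExact)

include hS in
theorem exists_lift_of_pic (T : Over (Spec (CommRingCat.of R))) (hT : ∀ a : PicLib.PicM T.left, a ^ p = 1 → a = 1)
    (q : G.obj.obj (op T)) (hq : p • q = 0) : ∃ y : F.obj.obj (op T), g.hom.app (op T) y = q := by
  obtain ⟨K⟩ := nonempty_unitsKernel f g w hS T
  haveI := isLocallySurjective_pb f g w hS T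
  let T' : Over (Spec (CommRingCat.of R)) := (Over.map T.hom).obj (opn (⊤ : T.left.Opens))
  let i : T' ⟶ T := Over.homMk (Scheme.Opens.ι ⊤)
  let j : T ⟶ T' := Over.homMk T.left.topIso.inv (by
    show T.left.topIso.inv ≫ Scheme.Opens.ι ⊤ ≫ T.hom = T.hom
    rw [← Scheme.topIso_hom, Iso.inv_hom_id_assoc])
  obtain ⟨y, hy⟩ := exists_global_lift_of_torsion K p hT (G.obj.map i.op q)
    ((map_nsmul (G.obj.map i.op).hom p q).symm.trans (by rw [hq, map_zero]))
  refine ⟨F.obj.map j.op y, ?_⟩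
  refine (NatTrans.naturality_apply g.hom j.op y).trans ((congrArg (G.obj.map j.op) hy).trans ?_)
  refine (Functor.map_comp_apply _ _ _ _).symm.trans ?_
  rw [← op_comp, show j ≫ i = 𝟙 T from Over.OverMorphism.ext (by
    show T.left.topIso.inv ≫ Scheme.Opens.ι ⊤ = 𝟙 _
    rw [← Scheme.topIso_hom, Iso.inv_hom_id]), op_id, CategoryTheory.Functor.map_id]
  rfl

/-- Truncated affine space. -/
noncomputable abbrev Tr (k : ℕ) : Over (Spec (CommRingCat.of R)) :=
  Over.mk (Spec.map (CommRingCat.ofHom (algebraMap R (MvPolynomial (Fin k) R ⧸ trI R k (p ^ n)))))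

/-- A truncated polynomial as a function. -/
noncomputable def fnT (k : ℕ) : MvPolynomial (Fin k) R →+* Γ((Tr (R := R) p n k).left, ⊤) :=
  (Scheme.ΓSpecIso (CommRingCat.of (MvPolynomial (Fin k) R ⧸ trI R k (p ^ n)))).inv.hom.comp
    (Ideal.Quotient.mk (trI R k (p ^ n)))

theorem fnT_eq_iff (k : ℕ) (a b : MvPolynomial (Fin k) R) :
    fnT p n k a = fnT p n k b ↔ a - b ∈ trI R k (p ^ n) := by
  rw [← Ideal.Quotient.eq]
  exact (Scheme.ΓSpecIso (CommRingCat.of (MvPolynomial (Fin k) R ⧸ trI R k (p ^ n)))).commRingCatIsoToRingEquiv.symm.injective.eq_iff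

theorem fnT_surjective (k : ℕ) : Function.Surjective (fnT (R := R) p n k) :=
  (Scheme.ΓSpecIso (CommRingCat.of (MvPolynomial (Fin k) R ⧸ trI R k (p ^ n)))).commRingCatIsoToRingEquiv.symm.surjective.comp
    Ideal.Quotient.mk_surjective

theorem sc_tr (k : ℕ) : sc (Tr (R := R) p n k) = (fnT p n k).comp MvPolynomial.C :=
  congrArg CommRingCat.Hom.hom
    (Scheme.ΓSpecIso_inv_naturality (CommRingCat.ofHom (algebraMap R (MvPolynomial (Fin k) R ⧸ trI R k (p ^ n))))).symm

theorem exists_ptT {k : ℕ} {Y : Over (Spec (CommRingCat.of R))} (v : Fin k → Γ(Y.left, ⊤))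
    (hv : ∀ i, v i ^ p ^ n = 0) :
    ∃ m : Y ⟶ Tr p n k, ∀ P, m.left.appTop.hom (fnT p n k P) = MvPolynomial.eval₂Hom (sc Y) v P := by
  let ev := MvPolynomial.eval₂Hom (sc Y) v
  have hle : ∀ a ∈ trI R k (p ^ n), ev a = 0 := by
    have h : trI R k (p ^ n) ≤ RingHom.ker ev := Ideal.span_le.2 (by
      rintro _ ⟨i, rfl⟩
      simpa [ev] using hv i)
    exact fun a ha => h ha
  let ev' := Ideal.Quotient.lift (trI R k (p ^ n)) ev hle
  refine ⟨Over.homMk (Y.left.toSpecΓ ≫ Spec.map (CommRingCat.ofHom ev'))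
    (map_structure Y ev' (RingHom.ext fun c => MvPolynomial.eval₂Hom_C _ _ c)), fun P => ?_⟩
  exact appTop_toSpec Y ev' _

include hS hF in
/-- A homomorphism from `α_{p^n}` to the quotient lifts. -/
theorem exists_hom_lift_alpha (φ : CGrpSh.pts K₀ (al (R := R) p n) ⟶ G) :
    ∃ ψ : CGrpSh.pts K₀ (al (R := R) p n) ⟶ F, ψ ≫ g = φ := by
  let pA : ∀ {Y : Over (Spec (CommRingCat.of R))}, (Y ⟶ al p n) → (CGrpSh.pts K₀ (al (R := R) p n)).obj.obj (op Y) :=
    fun a => ULift.up (Additive.ofMul a)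
  obtain ⟨y, hy⟩ := exists_lift_of_pic p f g w hS (al p n) (pic_al p n hF) (φ.hom.app (op (al p n)) (pA (𝟙 _)))
    (by rw [← map_nsmul, nsmul_pts p n, map_zero])
  have gnat : ∀ {P P' : Over (Spec (CommRingCat.of R))} (m : P' ⟶ P) (s : F.obj.obj (op P)),
      g.hom.app (op P') (F.obj.map m.op s) = G.obj.map m.op (g.hom.app (op P) s) :=
    fun m s => NatTrans.naturality_apply g.hom m.op s
  have hga : ∀ {Y : Over (Spec (CommRingCat.of R))} (a : Y ⟶ al p n),
      g.hom.app (op Y) (F.obj.map a.op y) = φ.hom.app (op Y) (pA a) :=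
    fun a => by
      rw [gnat, hy]
      refine (NatTrans.naturality_apply φ.hom a.op _).symm.trans (congrArg (φ.hom.app _) ?_)
      exact ULift.ext _ _ (congrArg Additive.ofMul (Category.comp_id a))
  have hpA : ∀ {Y : Over (Spec (CommRingCat.of R))} (a b : Y ⟶ al p n), pA (a * b) = pA a + pA b := fun a b => rfl
  let Z : ∀ {Y : Over (Spec (CommRingCat.of R))}, (Y ⟶ al p n) → F.obj.obj (op Y) :=
    fun {Y} a => F.obj.map a.op y - F.obj.map (1 : Y ⟶ al p n).op y
  have hZ1 : ∀ {Y : Over (Spec (CommRingCat.of R))}, Z (1 : Y ⟶ al p n) = 0 := fun {Y} => sub_self _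
  have hZn : ∀ {Y Y' : Over (Spec (CommRingCat.of R))} (m : Y' ⟶ Y) (a : Y ⟶ al p n),
      F.obj.map m.op (Z a) = Z (m ≫ a) := fun m a => by
    show F.obj.map m.op (_ - _) = _ - _
    rw [map_sub, ← Functor.map_comp_apply, ← Functor.map_comp_apply, ← op_comp, ← op_comp, MonObj.comp_one]
  have hgZ : ∀ {Y : Over (Spec (CommRingCat.of R))} (a : Y ⟶ al p n),
      g.hom.app (op Y) (Z a) = φ.hom.app (op Y) (pA a) := fun {Y} a => by
    show g.hom.app (op Y) (_ - _) = _
    rw [map_sub, hga, hga, show pA (1 : Y ⟶ al p n) = 0 from rfl, map_zero, sub_zero]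
  let fv : ∀ {Y : Over (Spec (CommRingCat.of R))}, (Y ⟶ Red.Gm (Spec (CommRingCat.of R))) → F.obj.obj (op Y) :=
    fun s => f.hom.app _ (ULift.up (Additive.ofMul s))
  have hfv : ∀ {Y : Over (Spec (CommRingCat.of R))} (s s' : Y ⟶ Red.Gm (Spec (CommRingCat.of R))),
      fv (s * s') = fv s + fv s' := fun s s' => map_add (f.hom.app _).hom _ _
  have hfv1 : ∀ {Y : Over (Spec (CommRingCat.of R))}, fv (1 : Y ⟶ Red.Gm (Spec (CommRingCat.of R))) = 0 :=
    fun {Y} => map_zero (f.hom.app _).hom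
  have hfvi : ∀ {Y : Over (Spec (CommRingCat.of R))} (s s' : Y ⟶ Red.Gm (Spec (CommRingCat.of R))),
      fv s = fv s' → s = s' := fun s s' h =>
    Additive.ofMul.injective (congrArg ULift.down (f_injective f g w hS _ h))
  have hfvn : ∀ {Y Y' : Over (Spec (CommRingCat.of R))} (m : Y' ⟶ Y) (s : Y ⟶ Red.Gm (Spec (CommRingCat.of R))),
      F.obj.map m.op (fv s) = fv (m ≫ s) := fun m s => (NatTrans.naturality_apply f.hom m.op _).symm
  let p₁ := fst (al (R := R) p n) (al (R := R) p n)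
  let p₂ := snd (al (R := R) p n) (al (R := R) p n)
  have hd : g.hom.app _ (Z (p₁ * p₂) - Z p₁ - Z p₂) = 0 := by
    rw [map_sub, map_sub, hgZ, hgZ, hgZ, hpA, map_add]
    abel
  obtain ⟨t', ht'⟩ := exists_eq_of_g_eq_zero f g w hS _ _ hd
  let t := t'.down.toMul
  let τ : ∀ {Y : Over (Spec (CommRingCat.of R))}, (Y ⟶ al p n) → (Y ⟶ al p n) → (Y ⟶ Red.Gm (Spec (CommRingCat.of R))) :=
    fun a b => lift a b ≫ t
  have hτ : ∀ {Y : Over (Spec (CommRingCat.of R))} (a b : Y ⟶ al p n), fv (τ a b) = Z (a * b) - Z a - Z b := fun a b => by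
    show fv (lift a b ≫ t) = _
    rw [← hfvn, show fv t = Z (p₁ * p₂) - Z p₁ - Z p₂ from ht', map_sub, map_sub, hZn, hZn, hZn,
      MonObj.comp_mul, lift_fst, lift_snd]
  choose x hx using fun (k : ℕ) (i : Fin k) => exists_co p n (Y := Tr (R := R) p n k) (fnT p n k (MvPolynomial.X i))
    (by rw [← map_pow, ← map_zero (fnT (R := R) p n k), fnT_eq_iff, sub_zero]; exact X_pow_mem k _ i)
  obtain ⟨h, hh⟩ := fnT_surjective p n 2 (Red.gmFn (τ (x 2 0) (x 2 1)))
  have hev : ∀ {Y : Over (Spec (CommRingCat.of R))} (a b : Y ⟶ al p n), Red.gmFn (τ a b) =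
      MvPolynomial.eval₂Hom (sc Y) ![co p n a, co p n b] h := fun {Y} a b => by
    obtain ⟨m, hm⟩ := exists_ptT p n (Y := Y) ![co p n a, co p n b] (fun i => by fin_cases i <;> exact co_pow p n _)
    have e0 : m ≫ x 2 0 = a := co_injective p n (by
      rw [co_comp, hx, hm, MvPolynomial.eval₂Hom_X']; rfl)
    have e1 : m ≫ x 2 1 = b := co_injective p n (by
      rw [co_comp, hx, hm, MvPolynomial.eval₂Hom_X']; rfl)
    rw [← hm h, hh, ← gmFn_comp]
    show _ = Red.gmFn (m ≫ lift (x 2 0) (x 2 1) ≫ t)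
    rw [← Category.assoc, comp_lift, e0, e1]
  have hsub : ∀ (k : ℕ) (A B : MvPolynomial (Fin k) R),
      MvPolynomial.eval₂Hom (sc (Tr p n k)) ![fnT p n k A, fnT p n k B] h = fnT p n k (MvPolynomial.aeval ![A, B] h) := fun k A B => by
    refine RingHom.congr_fun (f := MvPolynomial.eval₂Hom (sc (Tr p n k)) ![fnT p n k A, fnT p n k B])
      (g := (fnT p n k).comp (MvPolynomial.aeval ![A, B]).toRingHom) (MvPolynomial.ringHom_ext (fun c => ?_) fun i => ?_) h
    · rw [MvPolynomial.eval₂Hom_C, sc_tr]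
      simp [MvPolynomial.algebraMap_eq]
    · rw [MvPolynomial.eval₂Hom_X']
      fin_cases i <;> simp
  have hcoc : IsCocycle (p ^ n) h := by
    refine ⟨?_, ?_, ?_⟩
    · rw [← fnT_eq_iff, ← hsub, ← hx, ← hx, ← hev, hh]
      exact congrArg Red.gmFn (hfvi _ _ (by rw [hτ, hτ, _root_.mul_comm (x 2 1)]; abel))
    · rw [← fnT_eq_iff, map_mul, map_mul, ← hsub, ← hsub, ← hsub, ← hsub, map_add, map_add, ← hx, ← hx, ← hx,
        ← co_mul, ← co_mul, ← hev, ← hev, ← hev, ← hev, ← gmFn_mul, ← gmFn_mul]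
      refine congrArg Red.gmFn (hfvi _ _ ?_)
      rw [hfv, hfv, hτ, hτ, hτ, hτ, _root_.mul_assoc]
      abel
    · rw [← fnT_eq_iff, ← hsub, map_one, map_zero, ← hx, ← co_one p n (Y := Tr (R := R) p n 2), ← hev,
        show τ (x 2 0) 1 = 1 from hfvi _ _ (by rw [hτ, hfv1, _root_.mul_one, hZ1]; abel), gmFn_one]
  obtain ⟨P, hP0, hPid⟩ := exists_split p hF n h hcoc
  have hPu : IsUnit (Polynomial.eval₂ (sc (al p n)) (co p n (𝟙 (al (R := R) p n))) P) := by
    have hx : IsNilpotent (co p n (𝟙 (al (R := R) p n))) := ⟨p ^ n, co_pow p n _⟩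
    rw [← Polynomial.X_mul_divX_add P, hP0, Polynomial.C_1, Polynomial.eval₂_add, Polynomial.eval₂_mul, Polynomial.eval₂_X,
      Polynomial.eval₂_one]
    exact ((Commute.all _ _).isNilpotent_mul_right hx).isUnit_add_one
  obtain ⟨v, hv⟩ := exists_gmFn (S := Spec (CommRingCat.of R)) (X := al p n) hPu
  have hvn : ∀ {Y : Over (Spec (CommRingCat.of R))} (a : Y ⟶ al p n),
      Red.gmFn (a ≫ v) = Polynomial.eval₂ (sc Y) (co p n a) P := fun a => by
    rw [gmFn_comp, hv, Polynomial.hom_eval₂, appTop_comp_sc, ← co_comp, Category.comp_id]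
  have hvmul : ∀ {Y : Over (Spec (CommRingCat.of R))} (a b : Y ⟶ al p n),
      (a * b) ≫ v = (a ≫ v) * (b ≫ v) * τ a b := fun {Y} a b => by
    refine gmFn_injective ?_
    rw [gmFn_mul, gmFn_mul, hvn, hvn, hvn, co_mul, hev]
    let Φ := MvPolynomial.eval₂Hom (sc Y) ![co p n a, co p n b]
    have hC : Φ.comp (algebraMap R (MvPolynomial (Fin 2) R)) = sc Y :=
      RingHom.ext fun c => MvPolynomial.eval₂Hom_C _ _ c
    have hker : trI R 2 (p ^ n) ≤ RingHom.ker Φ := Ideal.span_le.2 (by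
      rintro _ ⟨i, rfl⟩
      fin_cases i <;> simp [Φ, co_pow])
    have h1 : Φ _ = 0 := hker hPid
    rw [map_sub, map_mul, map_mul, sub_eq_zero, Polynomial.aeval_def, Polynomial.aeval_def, Polynomial.aeval_def,
      Polynomial.hom_eval₂, Polynomial.hom_eval₂, Polynomial.hom_eval₂, hC, map_add] at h1
    simpa [Φ] using h1
  refine ⟨⟨{ app := fun Y => AddCommGrpCat.ofHom (AddMonoidHom.mk'
      (fun a => Z a.down.toMul - fv (a.down.toMul ≫ v)) fun a b => ?_)
             naturality := fun {Y Y'} m => ?_ }⟩, ?_⟩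
  · rw [show (a + b).down.toMul = a.down.toMul * b.down.toMul from rfl, hvmul, hfv, hfv, hτ]
    abel
  · ext a
    show Z (m.unop ≫ a.down.toMul) - fv ((m.unop ≫ a.down.toMul) ≫ v) =
      F.obj.map m.unop.op (Z a.down.toMul - fv (a.down.toMul ≫ v))
    rw [map_sub, hZn, hfvn, Category.assoc]
  · apply Sheaf.hom_ext
    ext Y a
    show g.hom.app Y (Z a.down.toMul - fv (a.down.toMul ≫ v)) = φ.hom.app Y a
    rw [map_sub, show g.hom.app Y (fv (a.down.toMul ≫ v)) = 0 from
      ConcreteCategory.congr_hom (congrArg (fun k => k.hom.app Y) w) _, sub_zero]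
    exact hgZ a.down.toMul

include hF in
/-- Extensions of `α_{p^n}` by the multiplicative group split. -/
theorem subsingleton_ext_alpha :
    Subsingleton (CGrpSh.ExtS K₀ (al (R := R) p n) (Red.Gm (Spec (CommRingCat.of R))) 1) := by
  refine subsingleton_of_forall_eq 0 fun x => ?_
  let S := ShortComplex.mk (Injective.ι (CGrpSh.pts K₀ (Red.Gm (Spec (CommRingCat.of R)))))
    (cokernel.π (Injective.ι (CGrpSh.pts K₀ (Red.Gm (Spec (CommRingCat.of R)))))) (cokernel.condition _)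
  have hS : S.ShortExact :=
    { exact := ShortComplex.exact_cokernel _
      mono_f := inferInstanceAs (Mono (Injective.ι _))
      epi_g := inferInstanceAs (Epi (cokernel.π _)) }
  haveI : Injective S.X₂ := inferInstanceAs (Injective (Injective.under _))
  obtain ⟨z, hz⟩ := Ext.covariant_sequence_exact₁ _ hS x (Ext.eq_zero_of_injective _) rfl
  obtain ⟨φ, rfl⟩ := (Ext.mk₀_bijective _ _).2 z
  obtain ⟨ψ, rfl⟩ := exists_hom_lift_alpha p n hF S.f S.g S.zero hS φ
  rw [← hz, ← Ext.mk₀_comp_mk₀, Ext.comp_assoc_of_second_deg_zero, hS.comp_extClass]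
  exact Ext.comp_zero (Ext.mk₀ ψ) _ _ _ _

end Groth.Agent.GaPerf23.Alpha
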