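import Groth.Agent.GaPerf23.SheafLift
import Groth.Agent.GaDualLib.SplitUnipotent
import Groth.Agent.S13380

/-!
# Homomorphisms from the additive group lift when Frobenius is surjective
-/

set_option autoImplicit false
set_option linter.all false
set_option backward.isDefEq.respectTransparency false
set_option backward.isDefEq.respectTransparency.types false
set_option synthInstance.maxHeartbeats 400000
set_option maxHeartbeats 1000000

universe u

open CategoryTheory CategoryTheory.Limits CategoryTheory.Abelian AlgebraicGeometry Opposite MonObj CartesianMonoidalCategory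
open MonoidalCategory

namespace Groth.Agent.GaPerf23

open Groth.Agent.SGA3cLib Groth.Agent.CAlgH3.FppfPicLocal Groth.Agent.GaGmQuot Groth.Agent.CAlgH3.GaGmExt

local notation "K₀" => Scheme.fppfPrecoverage

variable {R : Type u} [CommRing R]


/-- The scalars among functions. -/
noncomputable def sc (Y : Over (Spec (CommRingCat.of R))) : R →+* Γ(Y.left, ⊤) :=
  ((Scheme.ΓSpecIso (CommRingCat.of R)).inv ≫ Y.hom.appTop).hom

theorem appTop_comp_sc {Y Y' : Over (Spec (CommRingCat.of R))} (m : Y' ⟶ Y) : m.left.appTop.hom.comp (sc Y) = sc Y' := by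
  show ((Scheme.ΓSpecIso (CommRingCat.of R)).inv ≫ Y.hom.appTop ≫ m.left.appTop).hom = _
  rw [← Scheme.Hom.comp_appTop, Over.w]
  rfl

/-- Affine space as an object over the base. -/
noncomputable abbrev Aff (n : ℕ) : Over (Spec (CommRingCat.of R)) :=
  Over.mk (Spec.map (CommRingCat.ofHom (algebraMap R (MvPolynomial (Fin n) R))))

/-- A polynomial as a function. -/
noncomputable def fnA (n : ℕ) : MvPolynomial (Fin n) R →+* Γ((Aff (R := R) n).left, ⊤) :=
  (Scheme.ΓSpecIso (CommRingCat.of (MvPolynomial (Fin n) R))).inv.hom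

theorem sc_aff (n : ℕ) : sc (Aff (R := R) n) = (fnA n).comp MvPolynomial.C :=
  congrArg CommRingCat.Hom.hom
    (Scheme.ΓSpecIso_inv_naturality (CommRingCat.ofHom (algebraMap R (MvPolynomial (Fin n) R)))).symm

theorem fnA_injective (n : ℕ) : Function.Injective (fnA (R := R) n) :=
  (Scheme.ΓSpecIso (CommRingCat.of (MvPolynomial (Fin n) R))).commRingCatIsoToRingEquiv.symm.injective

theorem fnA_surjective (n : ℕ) : Function.Surjective (fnA (R := R) n) :=
  (Scheme.ΓSpecIso (CommRingCat.of (MvPolynomial (Fin n) R))).commRingCatIsoToRingEquiv.symm.surjective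

theorem exists_pt {n : ℕ} {Y : Over (Spec (CommRingCat.of R))} (v : Fin n → Γ(Y.left, ⊤)) :
    ∃ m : Y ⟶ Aff n, ∀ P, m.left.appTop.hom (fnA n P) = MvPolynomial.eval₂Hom (sc Y) v P := by
  let ev := MvPolynomial.eval₂Hom (sc Y) v
  refine ⟨Over.homMk (Y.left.toSpecΓ ≫ Spec.map (CommRingCat.ofHom ev)) ?_, fun P => ?_⟩
  · show (Y.left.toSpecΓ ≫ Spec.map (CommRingCat.ofHom ev)) ≫
      Spec.map (CommRingCat.ofHom (algebraMap R (MvPolynomial (Fin n) R))) = Y.hom
    rw [Category.assoc, ← Spec.map_comp, ← CommRingCat.ofHom_comp,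
      show ev.comp (algebraMap R (MvPolynomial (Fin n) R)) = sc Y from
        RingHom.ext fun c => MvPolynomial.eval₂Hom_C _ _ c,
      show CommRingCat.ofHom (sc Y) = (Scheme.ΓSpecIso (CommRingCat.of R)).inv ≫ Y.hom.appTop from rfl,
      Spec.map_comp, ← Scheme.toSpecΓ_naturality_assoc, ← SpecMap_ΓSpecIso_hom, ← Spec.map_comp,
      Iso.inv_hom_id, Spec.map_id, Category.comp_id]
  · show (Y.left.toSpecΓ ≫ Spec.map (CommRingCat.ofHom ev)).appTop.hom (fnA n P) = _
    rw [Scheme.Hom.comp_appTop, Scheme.toSpecΓ_appTop]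
    exact ConcreteCategory.congr_hom (show ((Scheme.ΓSpecIso (CommRingCat.of (MvPolynomial (Fin n) R))).inv ≫
      (Spec.map (CommRingCat.ofHom ev)).appTop) ≫ (Scheme.ΓSpecIso Γ(Y.left, ⊤)).hom = CommRingCat.ofHom ev by
        rw [← Scheme.ΓSpecIso_inv_naturality, Category.assoc]
        exact (congrArg (CommRingCat.ofHom ev ≫ ·) (Iso.inv_hom_id _)).trans (Category.comp_id _)) P

variable (p : ℕ) [Fact p.Prime] [CharP R p]

include p in
theorem nsmul_pts_eq_zero {Y : Over (Spec (CommRingCat.of R))} (a : (CGrpSh.pts K₀ (Red.Ga (Spec (CommRingCat.of R)))).obj.obj (op Y)) : p • a = 0 := by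
  refine ULift.ext _ _ ?_
  refine Additive.toMul.injective (gaFn_injective ?_)
  show Red.gaFn (a.down.toMul ^ p) = Red.gaFn (1 : Y ⟶ Red.Ga (Spec (CommRingCat.of R)))
  have h : ∀ k : ℕ, Red.gaFn (a.down.toMul ^ k) = (k : Γ(Y.left, ⊤)) * Red.gaFn a.down.toMul := fun k => by
    induction k with
    | zero => rw [pow_zero, gaFn_one, Nat.cast_zero, zero_mul]
    | succ k ih => rw [pow_succ, gaFn_mul, ih, Nat.cast_succ]; ring
  rw [h, gaFn_one, ← map_natCast (sc Y), CharP.cast_eq_zero, map_zero, zero_mul]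

variable (hF : Function.Surjective (frobenius R p))

include hF in
theorem pic_Ga (a : PicLib.PicM (Red.Ga (Spec (CommRingCat.of R))).left) (ha : a ^ p = 1) : a = 1 := by
  obtain ⟨e₀⟩ := GaDualLib.SplitUnipotent.nonempty_iso_affineLine (Spec (CommRingCat.of R))
  let P := MvPolynomial PUnit.{u + 1} R
  let e : (Red.Ga (Spec (CommRingCat.of R))).left ≅ Spec (CommRingCat.of P) :=
    ((Over.forget _).mapIso e₀).symm ≪≫ AffineSpace.SpecIso PUnit.{u + 1} (CommRingCat.of R)
  let R' := R ⧸ nilradical R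
  let q : R →+* R' := Ideal.Quotient.mk _
  have hq : Function.Surjective q := Ideal.Quotient.mk_surjective
  haveI : CharP R' p := CharP.quotient' p _ fun x hx => by
    obtain ⟨n, hn⟩ := mem_nilradical.1 hx
    by_contra h0
    have h1 : IsUnit (x : R) := (CharP.isUnit_natCast_iff (Fact.out : p.Prime)).2 fun h2 =>
      h0 ((CharP.cast_eq_zero_iff R p x).2 h2)
    haveI : Nontrivial R := CharP.nontrivial_of_char_ne_one (Fact.out : p.Prime).ne_one
    exact (h1.pow n).ne_zero hn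
  haveI : IsReduced R' := (Ideal.isRadical_iff_quotient_reduced _).1 (Ideal.radical_isRadical ⊥)
  have hF' : Function.Surjective (frobenius R' p) := fun x => by
    obtain ⟨x, rfl⟩ := hq x
    obtain ⟨y, rfl⟩ := hF x
    exact ⟨q y, by rw [frobenius_def, frobenius_def, map_pow]⟩
  let E := MvPolynomial.pUnitAlgEquiv.{u, u} R
  let π : P →+* Polynomial R' := (Polynomial.mapRingHom q).comp (E : P →+* Polynomial R)
  refine picM_eq_one_of_pow_eq_one (A := CommRingCat.of P) p (fun M _ _ _ h =>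
    PicTorsion.eq_one_of_pow_eq_one p hF' π ((Polynomial.map_surjective q hq).comp E.surjective)
      (fun s hs => ?_) M h) e a ha
  have h1 : IsNilpotent (E s) := by
    refine Polynomial.isNilpotent_iff.2 fun i => mem_nilradical.1 ?_
    rw [← Ideal.Quotient.eq_zero_iff_mem, ← Polynomial.coeff_map]
    exact (congrArg (fun r => Polynomial.coeff r i) hs).trans (Polynomial.coeff_zero i)
  simpa using h1.map E.symm

variable {F G : BigSite.Ab K₀ (Spec (CommRingCat.of R))} (f : CGrpSh.pts K₀ (Red.Gm (Spec (CommRingCat.of R))) ⟶ F) (g : F ⟶ G) (w : f ≫ g = 0)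
  (hS : (ShortComplex.mk f g w).ShortExact)

include hS hF in
theorem exists_lift_torsion (q : G.obj.obj (op (Red.Ga (Spec (CommRingCat.of R))))) (hq : p • q = 0) :
    ∃ y : F.obj.obj (op (Red.Ga (Spec (CommRingCat.of R)))), g.hom.app (op (Red.Ga (Spec (CommRingCat.of R)))) y = q := by
  let T := Red.Ga (Spec (CommRingCat.of R))
  obtain ⟨K⟩ := nonempty_unitsKernel f g w hS T
  haveI := isLocallySurjective_pb f g w hS T
  let T' : Over (Spec (CommRingCat.of R)) := (Over.map T.hom).obj (opn (⊤ : T.left.Opens))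
  let i : T' ⟶ T := Over.homMk (Scheme.Opens.ι ⊤)
  let j : T ⟶ T' := Over.homMk T.left.topIso.inv (by
    show T.left.topIso.inv ≫ Scheme.Opens.ι ⊤ ≫ T.hom = T.hom
    rw [← Scheme.topIso_hom, Iso.inv_hom_id_assoc])
  obtain ⟨y, hy⟩ := exists_global_lift_of_torsion K p (pic_Ga p hF) (G.obj.map i.op q)
    ((map_nsmul (G.obj.map i.op).hom p q).symm.trans (by rw [hq, map_zero]))
  refine ⟨F.obj.map j.op y, ?_⟩
  refine (NatTrans.naturality_apply g.hom j.op y).trans ((congrArg (G.obj.map j.op) hy).trans ?_)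
  refine (Functor.map_comp_apply _ _ _ _).symm.trans ?_
  rw [← op_comp, show j ≫ i = 𝟙 T from Over.OverMorphism.ext (by
    show T.left.topIso.inv ≫ Scheme.Opens.ι ⊤ = 𝟙 _
    rw [← Scheme.topIso_hom, Iso.inv_hom_id]), op_id, CategoryTheory.Functor.map_id]
  rfl

include hS hF in
/-- A homomorphism to the quotient lifts. -/
theorem exists_hom_lift_perfect (φ : CGrpSh.pts K₀ (Red.Ga (Spec (CommRingCat.of R))) ⟶ G) :
    ∃ ψ : CGrpSh.pts K₀ (Red.Ga (Spec (CommRingCat.of R))) ⟶ F, ψ ≫ g = φ := by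
  let pA : ∀ {Y : Over (Spec (CommRingCat.of R))}, (Y ⟶ Red.Ga (Spec (CommRingCat.of R))) → (CGrpSh.pts K₀ (Red.Ga (Spec (CommRingCat.of R)))).obj.obj (op Y) :=
    fun a => ULift.up (Additive.ofMul a)
  obtain ⟨y, hy⟩ := exists_lift_torsion p hF f g w hS (φ.hom.app (op (Red.Ga (Spec (CommRingCat.of R)))) (pA (𝟙 _)))
    (by rw [← map_nsmul, nsmul_pts_eq_zero p, map_zero])
  have gnat : ∀ {P P' : Over (Spec (CommRingCat.of R))} (m : P' ⟶ P) (s : F.obj.obj (op P)),
      g.hom.app (op P') (F.obj.map m.op s) = G.obj.map m.op (g.hom.app (op P) s) :=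
    fun m s => NatTrans.naturality_apply g.hom m.op s
  have hga : ∀ {Y : Over (Spec (CommRingCat.of R))} (a : Y ⟶ Red.Ga (Spec (CommRingCat.of R))), g.hom.app (op Y) (F.obj.map a.op y) = φ.hom.app (op Y) (pA a) :=
    fun a => by
      rw [gnat, hy]
      refine (NatTrans.naturality_apply φ.hom a.op _).symm.trans (congrArg (φ.hom.app _) ?_)
      exact ULift.ext _ _ (congrArg Additive.ofMul (Category.comp_id a))
  have hpA : ∀ {Y : Over (Spec (CommRingCat.of R))} (a b : Y ⟶ Red.Ga (Spec (CommRingCat.of R))), pA (a * b) = pA a + pA b := fun a b => rfl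
  let Z : ∀ {Y : Over (Spec (CommRingCat.of R))}, (Y ⟶ Red.Ga (Spec (CommRingCat.of R))) → F.obj.obj (op Y) :=
    fun {Y} a => F.obj.map a.op y - F.obj.map (1 : Y ⟶ Red.Ga (Spec (CommRingCat.of R))).op y
  have hZ1 : ∀ {Y : Over (Spec (CommRingCat.of R))}, Z (1 : Y ⟶ Red.Ga (Spec (CommRingCat.of R))) = 0 := fun {Y} => sub_self _
  have hZn : ∀ {Y Y' : Over (Spec (CommRingCat.of R))} (m : Y' ⟶ Y) (a : Y ⟶ Red.Ga (Spec (CommRingCat.of R))), F.obj.map m.op (Z a) = Z (m ≫ a) := fun m a => by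
    show F.obj.map m.op (_ - _) = _ - _
    rw [map_sub, ← Functor.map_comp_apply, ← Functor.map_comp_apply, ← op_comp, ← op_comp, MonObj.comp_one]
  have hgZ : ∀ {Y : Over (Spec (CommRingCat.of R))} (a : Y ⟶ Red.Ga (Spec (CommRingCat.of R))), g.hom.app (op Y) (Z a) = φ.hom.app (op Y) (pA a) := fun {Y} a => by
    show g.hom.app (op Y) (_ - _) = _
    rw [map_sub, hga, hga, show pA (1 : Y ⟶ Red.Ga (Spec (CommRingCat.of R))) = 0 from rfl, map_zero, sub_zero]
  let fv : ∀ {Y : Over (Spec (CommRingCat.of R))}, (Y ⟶ Red.Gm (Spec (CommRingCat.of R))) → F.obj.obj (op Y) :=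
    fun s => f.hom.app _ (ULift.up (Additive.ofMul s))
  have hfv : ∀ {Y : Over (Spec (CommRingCat.of R))} (s s' : Y ⟶ Red.Gm (Spec (CommRingCat.of R))), fv (s * s') = fv s + fv s' := fun s s' =>
    map_add (f.hom.app _).hom _ _
  have hfv1 : ∀ {Y : Over (Spec (CommRingCat.of R))}, fv (1 : Y ⟶ Red.Gm (Spec (CommRingCat.of R))) = 0 := fun {Y} => map_zero (f.hom.app _).hom
  have hfvi : ∀ {Y : Over (Spec (CommRingCat.of R))} (s s' : Y ⟶ Red.Gm (Spec (CommRingCat.of R))), fv s = fv s' → s = s' := fun s s' h =>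
    Additive.ofMul.injective (congrArg ULift.down (f_injective f g w hS _ h))
  have hfvn : ∀ {Y Y' : Over (Spec (CommRingCat.of R))} (m : Y' ⟶ Y) (s : Y ⟶ Red.Gm (Spec (CommRingCat.of R))), F.obj.map m.op (fv s) = fv (m ≫ s) :=
    fun m s => (NatTrans.naturality_apply f.hom m.op _).symm
  let p₁ := fst (Red.Ga (Spec (CommRingCat.of R))) (Red.Ga (Spec (CommRingCat.of R)))
  let p₂ := snd (Red.Ga (Spec (CommRingCat.of R))) (Red.Ga (Spec (CommRingCat.of R)))
  have hd : g.hom.app _ (Z (p₁ * p₂) - Z p₁ - Z p₂) = 0 := by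
    rw [map_sub, map_sub, hgZ, hgZ, hgZ, hpA, map_add]
    abel
  obtain ⟨t', ht'⟩ := exists_eq_of_g_eq_zero f g w hS _ _ hd
  let t := t'.down.toMul
  let τ : ∀ {Y : Over (Spec (CommRingCat.of R))}, (Y ⟶ Red.Ga (Spec (CommRingCat.of R))) → (Y ⟶ Red.Ga (Spec (CommRingCat.of R))) → (Y ⟶ Red.Gm (Spec (CommRingCat.of R))) := fun a b => lift a b ≫ t
  have hτ : ∀ {Y : Over (Spec (CommRingCat.of R))} (a b : Y ⟶ Red.Ga (Spec (CommRingCat.of R))), fv (τ a b) = Z (a * b) - Z a - Z b := fun a b => by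
    show fv (lift a b ≫ t) = _
    rw [← hfvn, show fv t = Z (p₁ * p₂) - Z p₁ - Z p₂ from ht', map_sub, map_sub, hZn, hZn, hZn,
      MonObj.comp_mul, lift_fst, lift_snd]
  -- the polynomial of the cocycle
  choose x hx using fun (n : ℕ) (i : Fin n) => exists_gaFn (S := (Spec (CommRingCat.of R))) (X := Aff n) (fnA n (MvPolynomial.X i))
  obtain ⟨h, hh⟩ := fnA_surjective 2 (Red.gmFn (τ (x 2 0) (x 2 1)))
  have hev : ∀ {Y : Over (Spec (CommRingCat.of R))} (a b : Y ⟶ Red.Ga (Spec (CommRingCat.of R))), Red.gmFn (τ a b) =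
      MvPolynomial.eval₂Hom (sc Y) ![Red.gaFn a, Red.gaFn b] h := fun {Y} a b => by
    obtain ⟨m, hm⟩ := exists_pt (Y := Y) ![Red.gaFn a, Red.gaFn b]
    have e0 : m ≫ x 2 0 = a := gaFn_injective (by
      rw [gaFn_comp, hx, hm, MvPolynomial.eval₂Hom_X']; rfl)
    have e1 : m ≫ x 2 1 = b := gaFn_injective (by
      rw [gaFn_comp, hx, hm, MvPolynomial.eval₂Hom_X']; rfl)
    rw [← hm h, hh, ← gmFn_comp]
    show _ = Red.gmFn (m ≫ lift (x 2 0) (x 2 1) ≫ t)
    rw [← Category.assoc, comp_lift, e0, e1]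
  have hsub : ∀ (n : ℕ) (A B : MvPolynomial (Fin n) R),
      MvPolynomial.eval₂Hom (sc (Aff n)) ![fnA n A, fnA n B] h = fnA n (MvPolynomial.aeval ![A, B] h) := fun n A B => by
    refine RingHom.congr_fun (f := MvPolynomial.eval₂Hom (sc (Aff n)) ![fnA n A, fnA n B])
      (g := (fnA n).comp (MvPolynomial.aeval ![A, B]).toRingHom) (MvPolynomial.ringHom_ext (fun c => ?_) fun i => ?_) h
    · rw [MvPolynomial.eval₂Hom_C, sc_aff]
      simp [MvPolynomial.algebraMap_eq]
    · rw [MvPolynomial.eval₂Hom_X']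
      fin_cases i <;> simp
  have hu : IsUnit h := by
    obtain ⟨u, hu⟩ := isUnit_gmFn (τ (x 2 0) (x 2 1))
    obtain ⟨v, hv⟩ := fnA_surjective 2 ((u⁻¹ : Γ((Aff (R := R) 2).left, ⊤)ˣ) : Γ((Aff (R := R) 2).left, ⊤))
    refine IsUnit.of_mul_eq_one v (fnA_injective 2 ?_)
    rw [map_mul, map_one, hh, hv, ← hu, Units.mul_inv]
  have h0 : MvPolynomial.aeval ![(MvPolynomial.X 0 : MvPolynomial (Fin 2) R), 0] h = 1 := by
    refine fnA_injective 2 ?_
    rw [← hsub, map_one, map_zero, ← hx, ← gaFn_one (S := (Spec (CommRingCat.of R))) (X := Aff 2), ← hev,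
      show τ (x 2 0) 1 = 1 from hfvi _ _ (by rw [hτ, hfv1, _root_.mul_one, hZ1]; abel), gmFn_one]
  have hsymm : MvPolynomial.aeval ![(MvPolynomial.X 1 : MvPolynomial (Fin 2) R), MvPolynomial.X 0] h = h := by
    refine fnA_injective 2 ?_
    rw [← hsub, ← hx, ← hx, ← hev, hh]
    exact congrArg Red.gmFn (hfvi _ _ (by rw [hτ, hτ, _root_.mul_comm (x 2 1)]; abel))
  have hcoc : MvPolynomial.aeval ![(MvPolynomial.X 1 : MvPolynomial (Fin 3) R), MvPolynomial.X 2] h *
        MvPolynomial.aeval ![MvPolynomial.X 0, MvPolynomial.X 1 + MvPolynomial.X 2] h =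
      MvPolynomial.aeval ![MvPolynomial.X 0 + MvPolynomial.X 1, MvPolynomial.X 2] h *
        MvPolynomial.aeval ![MvPolynomial.X 0, MvPolynomial.X 1] h := by
    refine fnA_injective 3 ?_
    rw [map_mul, map_mul, ← hsub, ← hsub, ← hsub, ← hsub, map_add, map_add, ← hx, ← hx, ← hx,
      ← gaFn_mul, ← gaFn_mul, ← hev, ← hev, ← hev, ← hev, ← gmFn_mul, ← gmFn_mul]
    refine congrArg Red.gmFn (hfvi _ _ ?_)
    rw [hfv, hfv, hτ, hτ, hτ, hτ, _root_.mul_assoc]
    abel
  obtain ⟨P, hP, hPid⟩ := Groth.Agent.S13380.result p R hF h hu h0 hsymm hcoc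
  obtain ⟨v, hv⟩ := exists_gmFn (S := (Spec (CommRingCat.of R))) (X := Red.Ga (Spec (CommRingCat.of R)))
    (hP.map (Polynomial.eval₂RingHom (sc (Red.Ga (Spec (CommRingCat.of R)))) (Red.gaFn (𝟙 (Red.Ga (Spec (CommRingCat.of R)))))))
  have hvn : ∀ {Y : Over (Spec (CommRingCat.of R))} (a : Y ⟶ Red.Ga (Spec (CommRingCat.of R))),
      Red.gmFn (a ≫ v) = Polynomial.eval₂ (sc Y) (Red.gaFn a) P := fun a => by
    rw [gmFn_comp, hv, Polynomial.coe_eval₂RingHom, Polynomial.hom_eval₂, appTop_comp_sc, ← gaFn_comp,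
      Category.comp_id]
  have hvmul : ∀ {Y : Over (Spec (CommRingCat.of R))} (a b : Y ⟶ Red.Ga (Spec (CommRingCat.of R))), (a * b) ≫ v = (a ≫ v) * (b ≫ v) * τ a b := fun {Y} a b => by
    refine gmFn_injective ?_
    rw [gmFn_mul, gmFn_mul, hvn, hvn, hvn, gaFn_mul, hev]
    let Φ := MvPolynomial.eval₂Hom (sc Y) ![Red.gaFn a, Red.gaFn b]
    have hC : Φ.comp (algebraMap R (MvPolynomial (Fin 2) R)) = sc Y :=
      RingHom.ext fun c => MvPolynomial.eval₂Hom_C _ _ c
    have h1 := congrArg Φ hPid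
    rw [map_mul, map_mul, Polynomial.aeval_def, Polynomial.aeval_def, Polynomial.aeval_def,
      Polynomial.hom_eval₂, Polynomial.hom_eval₂, Polynomial.hom_eval₂, hC, map_add] at h1
    simpa [Φ] using h1
  refine ⟨⟨{ app := fun Y => AddCommGrpCat.ofHom (AddMonoidHom.mk'
      (fun a => Z a.down.toMul - fv (a.down.toMul ≫ v)) fun a b => ?_)
             naturality := fun {Y Y'} m => ?_ }⟩, ?_⟩
  · rw [show (a + b).down.toMul = a.down.toMul * b.down.toMul from rfl, hvmul, hfv, hfv, hτ]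
    abel
  · ext a
    show Z (m.unop ≫ a.down.toMul) - fv ((m.unop ≫ a.down.toMul) ≫ v) =
      F.obj.map m.unop.op (Z a.down.toMul - fv (a.down.toMul ≫ v))
    rw [map_sub, hZn, hfvn, Category.assoc]
  · apply Sheaf.hom_ext
    ext Y a
    show g.hom.app Y (Z a.down.toMul - fv (a.down.toMul ≫ v)) = φ.hom.app Y a
    rw [map_sub, show g.hom.app Y (fv (a.down.toMul ≫ v)) = 0 from
      ConcreteCategory.congr_hom (congrArg (fun k => k.hom.app Y) w) _, sub_zero]
    exact hgZ a.down.toMul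

include hF in
/-- Extensions of the additive by the multiplicative group split. -/
theorem subsingleton_ext_perfect : Subsingleton (CGrpSh.ExtS K₀ (Red.Ga (Spec (CommRingCat.of R))) (Red.Gm (Spec (CommRingCat.of R))) 1) := by
  refine subsingleton_of_forall_eq 0 fun x => ?_
  let S := ShortComplex.mk (Injective.ι (CGrpSh.pts K₀ (Red.Gm (Spec (CommRingCat.of R)))))
    (cokernel.π (Injective.ι (CGrpSh.pts K₀ (Red.Gm (Spec (CommRingCat.of R)))))) (cokernel.condition _)
  have hS : S.ShortExact :=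
    { exact := ShortComplex.exact_cokernel _
      mono_f := inferInstanceAs (Mono (Injective.ι _))
      epi_g := inferInstanceAs (Epi (cokernel.π _)) }
  haveI : Injective S.X₂ := inferInstanceAs (Injective (Injective.under _))
  obtain ⟨z, hz⟩ := Ext.covariant_sequence_exact₁ _ hS x (Ext.eq_zero_of_injective _) rfl
  obtain ⟨φ, rfl⟩ := (Ext.mk₀_bijective _ _).2 z
  obtain ⟨ψ, rfl⟩ := exists_hom_lift_perfect p hF S.f S.g S.zero hS φ
  rw [← hz, ← Ext.mk₀_comp_mk₀, Ext.comp_assoc_of_second_deg_zero, hS.comp_extClass]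
  exact Ext.comp_zero (Ext.mk₀ ψ) _ _ _ _

include hS hF in
/-- Homomorphisms from an iterated extension of additive groups lift. -/
theorem exists_lift_tower [Injective F]
    {n : ℕ} (U : Fin (n + 1) → Over (Spec (CommRingCat.of R))) [∀ j, GrpObj (U j)] [∀ j, IsCommMonObj (U j)]
    (incl : ∀ j : Fin n, U j.castSucc ⟶ U j.succ) (proj : ∀ j : Fin n, U j.succ ⟶ Red.Ga (Spec (CommRingCat.of R)))
    [∀ j, IsMonHom (incl j)] [∀ j, IsMonHom (proj j)] (hw : ∀ j, incl j ≫ proj j = 1)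
    (hex : ∀ j, (CGrpSh.seq K₀ (incl j) (proj j) (hw j)).ShortExact)
    (h0 : IsZero (CGrpSh.pts K₀ (U 0))) (j : Fin (n + 1)) :
    ∀ φ : CGrpSh.pts K₀ (U j) ⟶ G, ∃ ψ : CGrpSh.pts K₀ (U j) ⟶ F, ψ ≫ g = φ := by
  induction j using Fin.induction with
  | zero => exact fun φ => ⟨0, h0.eq_of_src _ _⟩
  | succ j ih =>
    intro φ
    let u₁ : CGrpSh.pts K₀ (U j.castSucc) ⟶ CGrpSh.pts K₀ (U j.succ) := CGrpSh.ptsMap K₀ (incl j)
    let π : CGrpSh.pts K₀ (U j.succ) ⟶ CGrpSh.pts K₀ (Red.Ga (Spec (CommRingCat.of R))) := CGrpSh.ptsMap K₀ (proj j)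
    haveI : Mono u₁ := (hex j).mono_f
    haveI : Epi π := (hex j).epi_g
    obtain ⟨ψ, hψ⟩ := ih (u₁ ≫ φ)
    let ψ' := Injective.factorThru ψ u₁
    have hk : u₁ ≫ (φ - ψ' ≫ g) = 0 := by
      rw [Preadditive.comp_sub, ← Category.assoc, Injective.comp_factorThru, hψ, sub_self]
    obtain ⟨χ, hχ⟩ := (hex j).gIsCokernel |> fun h => CokernelCofork.IsColimit.desc' h (φ - ψ' ≫ g) hk
    obtain ⟨χ', hχ'⟩ := exists_hom_lift_perfect p hF f g w hS χ
    refine ⟨ψ' + π ≫ χ', ?_⟩
    rw [Preadditive.add_comp, Category.assoc, hχ', show π ≫ χ = φ - ψ' ≫ g from hχ]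
    exact add_sub_cancel _ _

end Groth.Agent.GaPerf23
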