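import Mathlib.RingTheory.PicardGroup
import Mathlib.Algebra.CharP.Frobenius
import Mathlib.Algebra.CharP.Invertible
import Mathlib.RingTheory.Polynomial.Nilpotent
import Mathlib.Algebra.Polynomial.Expand
import Mathlib.Algebra.Polynomial.Derivative
import Mathlib.RingTheory.Nilpotent.Lemmas

/-!
# The Picard group of a line over a ring with surjective Frobenius has no `p`-torsion
-/

set_option autoImplicit false

universe u

open Polynomial TensorProduct Module

namespace Groth.Agent.GaPerf23.PicTorsion

section Invertible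

variable {S M : Type u} [CommRing S] [AddCommGroup M] [Module S M] [Module.Invertible S M]

theorem swap (φ : Module.Dual S M) (x y : M) : φ x • y = φ y • x :=
  congrArg (TensorProduct.lift ((LinearMap.lsmul S M).comp φ))
    (Module.Invertible.tmul_comm (R := S) (m₁ := x) (m₂ := y))

theorem eq_top_of_forall (I : Ideal S) (k : ℕ) (h : ∀ (φ : Module.Dual S M) (e : M), (φ e) ^ k ∈ I) :
    I = ⊤ := by
  rw [← Ideal.radical_eq_top, Ideal.eq_top_iff_one]
  obtain ⟨z, hz⟩ := (Module.Invertible.bijective (R := S) (M := M)).2 1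
  rw [← hz]
  clear hz
  induction z using TensorProduct.induction_on with
  | zero => rw [map_zero]; exact Ideal.zero_mem _
  | tmul φ e => exact ⟨k, h φ e⟩
  | add a b ha hb => rw [map_add]; exact Ideal.add_mem _ ha hb

theorem eq_zero_of_forall {T : Type u} [CommRing T] (π : S →+* T) (k : ℕ) (X : T)
    (h : ∀ (φ : Module.Dual S M) (e : M), π (φ e) ^ k * X = 0) : X = 0 := by
  let I : Ideal S :=
    { carrier := {c | π c * X = 0}
      add_mem' := fun {a b} ha hb => by
        show π (a + b) * X = 0
        rw [map_add, add_mul, (ha : π a * X = 0), (hb : π b * X = 0), add_zero]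
      zero_mem' := by show π 0 * X = 0; rw [map_zero, zero_mul]
      smul_mem' := fun c a ha => by
        show π (c * a) * X = 0
        rw [map_mul, mul_assoc, (ha : π a * X = 0), mul_zero] }
  have h1 : (1 : S) ∈ I := by
    rw [eq_top_of_forall I k fun φ e => show π (φ e ^ k) * X = 0 by rw [map_pow]; exact h φ e]
    exact Submodule.mem_top
  have h2 : π 1 * X = 0 := h1
  rwa [map_one, one_mul] at h2

theorem exists_diag (n : ℕ) :
    ∃ δ : M → ((CommRing.Pic.mk S M) ^ n : CommRing.Pic S),
      (∀ (s : S) (m : M), δ (s • m) = s ^ n • δ m) ∧ Submodule.span S (Set.range δ) = ⊤ := by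
  induction n with
  | zero =>
    obtain ⟨e⟩ := (CommRing.Pic.mk_eq_iff (R := S) (M := S)).1
      ((CommRing.Pic.mk_self (R := S)).trans (pow_zero (CommRing.Pic.mk S M)).symm)
    refine ⟨fun _ => e 1, fun s m => ((congrArg (· • e 1) (pow_zero s)).trans (one_smul S _)).symm, eq_top_iff.2 fun x _ => ?_⟩
    rw [← e.apply_symm_apply x, ← mul_one (e.symm x), ← smul_eq_mul, map_smul]
    exact Submodule.smul_mem _ _ (Submodule.subset_span ⟨0, rfl⟩)
  | succ n ih =>
    obtain ⟨δ, hδ, hs⟩ := ih
    obtain ⟨e⟩ := (CommRing.Pic.mk_eq_iff (R := S)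
      (M := ((CommRing.Pic.mk S M) ^ n : CommRing.Pic S) ⊗[S] M)).1
      ((CommRing.Pic.mk_tensor (R := S)).trans (by rw [CommRing.Pic.mk_eq_self, ← pow_succ]) :
        CommRing.Pic.mk S (((CommRing.Pic.mk S M) ^ n : CommRing.Pic S) ⊗[S] M) =
          (CommRing.Pic.mk S M) ^ (n + 1))
    let δ' := fun m => δ m ⊗ₜ[S] m
    have hδ' : ∀ (s : S) (m : M), δ' (s • m) = s ^ (n + 1) • δ' m := fun s m => by
      show δ (s • m) ⊗ₜ[S] (s • m) = _
      rw [hδ, TensorProduct.smul_tmul', TensorProduct.tmul_smul, TensorProduct.smul_tmul',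
        smul_smul, ← pow_succ']
    have hs' : Submodule.span S (Set.range δ') = ⊤ := by
      rw [eq_top_iff, ← TensorProduct.span_tmul_eq_top, Submodule.span_le]
      rintro _ ⟨a, y, rfl⟩
      have ha : a ∈ Submodule.span S (Set.range δ) := hs ▸ Submodule.mem_top
      induction ha using Submodule.span_induction with
      | mem a ha =>
        obtain ⟨x, rfl⟩ := ha
        let I : Ideal S := (Submodule.span S (Set.range δ')).colon {δ x ⊗ₜ[S] y}
        have hI : (1 : S) ∈ I := by
          rw [eq_top_of_forall (M := M) I (n + 1) fun φ e => ?_]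
          · exact Submodule.mem_top
          · rw [Submodule.mem_colon_singleton]
            have hx := swap φ e x
            have hy := swap φ e y
            have h1 : (φ e) ^ (n + 1) • (δ x ⊗ₜ[S] y) = (φ x ^ n * φ y) • δ' e := by
              calc (φ e) ^ (n + 1) • (δ x ⊗ₜ[S] y) = δ (φ e • x) ⊗ₜ[S] (φ e • y) := by
                    rw [hδ, TensorProduct.tmul_smul, ← TensorProduct.smul_tmul', smul_smul, pow_succ']
                _ = (φ x ^ n * φ y) • δ' e := by
                    rw [hx, hy, hδ, TensorProduct.tmul_smul, ← TensorProduct.smul_tmul', smul_smul, mul_comm]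
            rw [h1]
            exact Submodule.smul_mem _ _ (Submodule.subset_span ⟨e, rfl⟩)
        have h2 := Submodule.mem_colon_singleton.1 hI
        rwa [one_smul] at h2
      | zero => rw [TensorProduct.zero_tmul]; exact Submodule.zero_mem _
      | add a b _ _ ha hb => rw [TensorProduct.add_tmul]; exact Submodule.add_mem _ ha hb
      | smul c a _ ha => rw [← TensorProduct.smul_tmul']; exact Submodule.smul_mem _ _ ha
    refine ⟨fun m => e (δ' m), fun s m => (congrArg e (hδ' s m)).trans (map_smul e _ _), ?_⟩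
    have h3 : Submodule.span S (Set.range fun m => e (δ' m)) =
        (Submodule.span S (Set.range δ')).map e.toLinearMap := by
      rw [Submodule.map_span, ← Set.range_comp]
      rfl
    rw [h3, hs', Submodule.map_top, LinearMap.range_eq_top]
    exact e.surjective

end Invertible

section Poly

variable {R : Type u} [CommRing R] (p : ℕ) [Fact p.Prime] [CharP R p]

theorem iterate_derivative_eq_zero (f : R[X]) : derivative^[p] f = 0 := by
  ext m
  rw [coeff_iterate_derivative, coeff_zero, nsmul_eq_mul]
  refine mul_eq_zero_of_left ((CharP.cast_eq_zero_iff R p _).2 ?_) _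
  exact (Nat.dvd_factorial (Fact.out : p.Prime).pos le_rfl).trans (Nat.factorial_dvd_descFactorial _ _)

theorem exists_pow_eq [IsReduced R] (hF : Function.Surjective (frobenius R p)) (f : R[X])
    (hf : derivative f = 0) : ∃ g : R[X], g ^ p = f := by
  have hp : 0 < p := (Fact.out : p.Prime).pos
  have h1 : expand R p (contract p f) = f := by
    ext n
    rw [coeff_expand hp]
    split_ifs with h
    · rw [coeff_contract hp.ne', Nat.div_mul_cancel h]
    · obtain ⟨k, rfl⟩ : ∃ k, n = k + 1 :=
        Nat.exists_eq_succ_of_ne_zero fun h0 => h (h0 ▸ dvd_zero p)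
      have h2 : (derivative f).coeff k = 0 := by rw [hf, coeff_zero]
      rw [coeff_derivative, ← Nat.cast_succ] at h2
      have hu : IsUnit ((k.succ : ℕ) : R) :=
        (_root_.CharP.isUnit_natCast_iff (R := R) (Fact.out : p.Prime)).2 h
      exact (hu.mul_left_eq_zero.1 h2).symm
  obtain ⟨g, hg⟩ := map_surjective (frobenius R p) hF (contract p f)
  exact ⟨g, by rw [← map_frobenius_expand, Polynomial.map_expand, hg, h1]⟩

end Poly

theorem eq_one_of_pow_eq_one (p : ℕ) [Fact p.Prime] {S R : Type u} [CommRing S] [CommRing R]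
    [CharP R p] [IsReduced R] (hF : Function.Surjective (frobenius R p)) (π : S →+* R[X])
    (hπ : Function.Surjective π) (hnil : ∀ s, π s = 0 → IsNilpotent s)
    (M : Type u) [AddCommGroup M] [Module S M] [Module.Invertible S M]
    (h : CommRing.Pic.mk S M ^ p = 1) : Nonempty (M ≃ₗ[S] S) := by
  have hp : 0 < p := (Fact.out : p.Prime).pos
  obtain ⟨δ, hδ, hspan⟩ := exists_diag (S := S) (M := M) p
  obtain ⟨e⟩ := CommRing.Pic.mk_eq_one_iff.1
    ((CommRing.Pic.mk_eq_self (M := (CommRing.Pic.mk S M) ^ p)).trans h)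
  let μ : M → R[X] := fun m => π (e (δ m))
  have hμ : ∀ (s : S) (m : M), μ (s • m) = π s ^ p * μ m := fun s m => by
    show π (e (δ (s • m))) = _
    rw [hδ, map_smul, smul_eq_mul, map_mul, map_pow]
  have hspan' : ∀ (I : Ideal R[X]), (∀ m, μ m ∈ I) → I = ⊤ := fun I hI => by
    have h1 : ∀ z, π (e z) ∈ I := fun z => by
      have hz : z ∈ Submodule.span S (Set.range δ) := hspan ▸ Submodule.mem_top
      induction hz using Submodule.span_induction with
      | mem z hz => obtain ⟨m, rfl⟩ := hz; exact hI m
      | zero => rw [map_zero, map_zero]; exact I.zero_mem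
      | add a b _ _ ha hb => rw [map_add, map_add]; exact I.add_mem ha hb
      | smul c a _ ha => rw [map_smul, smul_eq_mul, map_mul]; exact I.mul_mem_left _ ha
    rw [Ideal.eq_top_iff_one]
    simpa using h1 (e.symm 1)
  have hloc : ∀ (φ : Module.Dual S M) (a x : M), π (φ a) ^ p * μ x = π (φ x) ^ p * μ a := fun φ a x => by
    rw [← hμ, ← hμ, swap φ a x]
  have hD : ∀ t v : R[X], derivative (t ^ p * v) = t ^ p * derivative v := fun t v => by
    rw [derivative_mul, derivative_pow, CharP.cast_eq_zero, map_zero, zero_mul, zero_mul, zero_mul, zero_add]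
  have hadd : ∀ x y, μ (x + y) = μ x + μ y := fun x y => sub_eq_zero.1 <|
    eq_zero_of_forall (M := M) π p _ fun φ a => by
      rw [mul_sub, mul_add, hloc φ a, hloc φ a, hloc φ a, map_add, map_add, add_pow_char, add_mul, sub_self]
  have hprop : ∀ x y, derivative (μ x) * μ y - derivative (μ y) * μ x = 0 := fun x y =>
    eq_zero_of_forall (M := M) π (p + p) _ fun φ a => by
      have h1 := hloc φ a x
      have h2 := hloc φ a y
      have h3 : π (φ a) ^ p * derivative (μ x) = π (φ x) ^ p * derivative (μ a) := by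
        rw [← hD, h1, hD]
      have h4 : π (φ a) ^ p * derivative (μ y) = π (φ y) ^ p * derivative (μ a) := by
        rw [← hD, h2, hD]
      calc π (φ a) ^ (p + p) * (derivative (μ x) * μ y - derivative (μ y) * μ x)
          = (π (φ a) ^ p * derivative (μ x)) * (π (φ a) ^ p * μ y) -
              (π (φ a) ^ p * derivative (μ y)) * (π (φ a) ^ p * μ x) := by rw [pow_add]; ring
        _ = 0 := by rw [h1, h2, h3, h4]; ring
  let J : Ideal R[X] :=
    { carrier := {c | ∃ a, ∀ m, c * derivative (μ m) = a * μ m}
      add_mem' := fun {c d} ⟨a, ha⟩ ⟨b, hb⟩ => ⟨a + b, fun m => by rw [add_mul, add_mul, ha, hb]⟩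
      zero_mem' := ⟨0, fun m => by simp⟩
      smul_mem' := fun t c ⟨a, ha⟩ => ⟨t * a, fun m => by
        rw [smul_eq_mul, mul_assoc, ha, mul_assoc]⟩ }
  obtain ⟨a, ha⟩ : (1 : R[X]) ∈ J :=
    (Ideal.eq_top_iff_one J).1 (hspan' J fun n => ⟨derivative (μ n), fun m => by linear_combination hprop m n⟩)
  simp only [one_mul] at ha
  -- the logarithmic derivative vanishes
  let b : ℕ → R[X] := fun k => Nat.rec 1 (fun _ q => derivative q + a * q) k
  have hb : ∀ k m, derivative^[k] (μ m) = b k * μ m := fun k => by
    induction k with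
    | zero => exact fun m => (one_mul _).symm
    | succ k ih =>
      intro m
      rw [Function.iterate_succ_apply', ih, derivative_mul, ha]
      show _ = (derivative (b k) + a * b k) * μ m
      ring
  have hdeg : ∀ k, (b k).natDegree ≤ k * a.natDegree ∧
      (b k).coeff (k * a.natDegree) = a.leadingCoeff ^ k := fun k => by
    induction k with
    | zero => simp [b]
    | succ k ih =>
      refine ⟨?_, ?_⟩
      · show (derivative (b k) + a * b k).natDegree ≤ _
        rw [Nat.succ_mul]
        refine natDegree_add_le_of_degree_le ?_ (natDegree_mul_le.trans (by omega))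
        exact (natDegree_derivative_le _).trans (by omega)
      · show (derivative (b k) + a * b k).coeff _ = _
        rw [Nat.succ_mul, coeff_add, coeff_derivative,
          coeff_eq_zero_of_natDegree_lt (p := b k) (by omega), zero_mul, zero_add,
          Nat.add_comm (k * a.natDegree), coeff_mul_add_eq_of_natDegree_le le_rfl ih.1, ih.2]
        exact (pow_succ' _ _).symm
  have hbp : b p = 0 := by
    have hK : (1 : R[X]) ∈ (⊥ : Ideal R[X]).colon {b p} := by
      refine (Ideal.eq_top_iff_one _).1 (hspan' _ fun m => ?_)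
      rw [Submodule.mem_colon_singleton, Submodule.mem_bot, smul_eq_mul, mul_comm, ← hb p m,
          iterate_derivative_eq_zero]
    simpa [Submodule.mem_colon_singleton] using hK
  have ha0 : a = 0 := by
    have h1 := (hdeg p).2
    rw [hbp, coeff_zero] at h1
    exact leadingCoeff_eq_zero.1 (IsReduced.eq_zero _ ⟨p, h1.symm⟩)
  -- the pth root
  choose ν hν using fun m => exists_pow_eq p hF (μ m) (by rw [ha, ha0, zero_mul])
  haveI : IsReduced R[X] := ⟨fun f hf => Polynomial.ext fun i => by
    rw [coeff_zero]; exact IsReduced.eq_zero _ (Polynomial.isNilpotent_iff.1 hf i)⟩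
  have hinj : ∀ t t' : R[X], t ^ p = t' ^ p → t = t' := fun t t' ht =>
    sub_eq_zero.1 (IsReduced.eq_zero _ ⟨p, by rw [sub_pow_char, ht, sub_self]⟩)
  have hνadd : ∀ x y, ν (x + y) = ν x + ν y := fun x y => hinj _ _ (by rw [add_pow_char, hν, hν, hν, hadd])
  have hνsmul : ∀ (s : S) x, ν (s • x) = π s * ν x := fun s x => hinj _ _ (by rw [mul_pow, hν, hν, hμ])
  letI : Algebra S R[X] := π.toAlgebra
  let ν' : M →ₗ[S] R[X] := { toFun := ν, map_add' := hνadd, map_smul' := hνsmul }
  let q : S →ₗ[S] R[X] := Algebra.linearMap S R[X]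
  obtain ⟨φ, hφ⟩ := Module.projective_lifting_property q ν' hπ
  have htop : Ideal.map π (LinearMap.range φ : Ideal S) = ⊤ := by
    refine hspan' _ fun m => ?_
    rw [← hν m, show ν m = π (φ m) from (LinearMap.congr_fun hφ m).symm]
    exact Ideal.pow_mem_of_mem _ (Ideal.mem_map_of_mem π (LinearMap.mem_range_self φ m)) p hp
  have hsurj : Function.Surjective φ := by
    rw [← LinearMap.range_eq_top]
    obtain ⟨c, hc, hc1⟩ := (Ideal.mem_map_iff_of_surjective π hπ).1 (htop ▸ Submodule.mem_top (x := (1 : R[X])))
    refine Ideal.eq_top_of_isUnit_mem _ hc ?_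
    have hu := (hnil (c - 1) (by rw [map_sub, map_one, hc1, sub_self])).isUnit_add_one
    rwa [sub_add_cancel] at hu
  exact ⟨LinearEquiv.ofBijective φ (Module.Invertible.bijective_of_surjective hsurj)⟩

end Groth.Agent.GaPerf23.PicTorsion
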