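import Groth.Agent.GaPerf23.PicTorsion
import Groth.Agent.CAlgH3.FppfPicSplit
import Groth.Agent.PicLim27.AffPic
import Groth.Agent.PicLib.PicMonoid

/-!
# Sections killed by `p` lift when the Picard group has no `p`-torsion
-/

set_option autoImplicit false
set_option linter.all false
set_option backward.isDefEq.respectTransparency false
set_option backward.isDefEq.respectTransparency.types false
set_option synthInstance.maxHeartbeats 400000
set_option maxHeartbeats 1000000

universe u

open CategoryTheory CategoryTheory.Limits CategoryTheory.Abelian AlgebraicGeometry Opposite TopologicalSpace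
open TensorProduct

namespace Groth.Agent.GaPerf23

open Groth.Agent.PicLib Groth.Agent.AmpleLib

/-- Powers of an invertible class on an affine scheme are given by powers in the Picard group. -/
theorem of_tilde_pow {A : CommRingCat.{u}} (M : ModuleCat.{u} A) [Module.Invertible A M]
    (hM : PicF.IsInvertible (tilde M)) (n : ℕ) :
    ∃ h : PicF.IsInvertible (tilde (ModuleCat.of A ((CommRing.Pic.mk A M) ^ n : CommRing.Pic A))),
      (PicM.of hM) ^ n = PicM.of h := by
  induction n with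
  | zero =>
    obtain ⟨e⟩ := (CommRing.Pic.mk_eq_iff (R := A) (M := A)).1
      ((CommRing.Pic.mk_self (R := A)).trans (pow_zero (CommRing.Pic.mk A M)).symm)
    let i := (tilde.functor A).mapIso e.toModuleIso
    obtain ⟨u⟩ := PicLim27.nonempty_tilde_self (A := A)
    refine ⟨KLLib.isInvertible_of_iso (u.symm ≪≫ i) (PicLoc.isInvertible_structureModule _), ?_⟩
    rw [pow_zero]
    exact ((PicM.of_eq_one_iff _).2 ⟨i.symm ≪≫ u⟩).symm
  | succ n ih =>
    obtain ⟨h, hn⟩ := ih
    let N : ModuleCat.{u} A := ModuleCat.of A ((CommRing.Pic.mk A M) ^ n : CommRing.Pic A)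
    obtain ⟨e⟩ := (CommRing.Pic.mk_eq_iff (R := A) (M := ((CommRing.Pic.mk A M) ^ n : CommRing.Pic A) ⊗[A] M)).1
      ((CommRing.Pic.mk_tensor (R := A)).trans (by rw [CommRing.Pic.mk_eq_self, ← pow_succ]) :
        CommRing.Pic.mk A (((CommRing.Pic.mk A M) ^ n : CommRing.Pic A) ⊗[A] M) =
          (CommRing.Pic.mk A M) ^ (n + 1))
    let i : CohB1.tensorMod (tilde N) (tilde M) ≅
        tilde (ModuleCat.of A ((CommRing.Pic.mk A M) ^ (n + 1) : CommRing.Pic A)) :=
      (Coherent.tildeTensorIso N M).symm ≪≫ (tilde.functor A).mapIso e.toModuleIso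
    refine ⟨KLLib.isInvertible_of_iso i (isInvertible_tensorMod h hM), ?_⟩
    rw [pow_succ, hn, PicM.of_mul]
    exact (PicM.of_eq_iff _ _).2 ⟨i⟩

/-- The Picard group of an affine scheme inherits the torsion freeness of its ring. -/
theorem picM_eq_one_of_pow_eq_one {A : CommRingCat.{u}} (p : ℕ)
    (hA : ∀ (M : Type u) [AddCommGroup M] [Module A M] [Module.Invertible A M],
      CommRing.Pic.mk A M ^ p = 1 → Nonempty (M ≃ₗ[A] A))
    {Y : Scheme.{u}} (ψ : Y ≅ Spec A) (a : PicM Y) (ha : a ^ p = 1) : a = 1 := by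
  suffices h : ∀ b : PicM (Spec A), b ^ p = 1 → b = 1 by
    have h1 := h (PicM.pull ψ.inv a) (by rw [← map_pow, ha, map_one])
    have h2 := congrArg (PicM.pull ψ.hom) h1
    rwa [PicM.pull_pull, ψ.hom_inv_id, PicM.pull_id, map_one] at h2
  intro b hb
  obtain ⟨L, hL, rfl⟩ := PicM.exists_eq_of b
  obtain ⟨M, hMf, hMp, ⟨e⟩⟩ := PicLim27.exists_tilde_iso L hL
  obtain ⟨N', hN'⟩ := VarietyLib.exists_isInverseOf hL
  obtain ⟨i⟩ := hN'
  have hN : PicF.IsInvertible N' := PicM.isInvertible_of_tensor hL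
    (KLLib.isInvertible_of_iso i.symm (PicLoc.isInvertible_structureModule _))
  obtain ⟨Q', hQf', hQp', ⟨e'⟩⟩ := PicLim27.exists_tilde_iso N' hN
  obtain ⟨q⟩ := PicLim27.nonempty_linearEquiv_of_tilde (Coherent.tildeTensorIso M Q' ≪≫
    PicGrp.tensorModIso e e' ≪≫ i ≪≫ (PicLim27.nonempty_tilde_self (A := A)).some.symm)
  haveI : Module.Invertible A M := Module.Invertible.left q
  have hM : PicF.IsInvertible (tilde M) := KLLib.isInvertible_of_iso e.symm hL
  have hLM : PicM.of hL = PicM.of hM := (PicM.of_eq_iff _ _).2 ⟨e.symm⟩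
  obtain ⟨h, hp⟩ := of_tilde_pow M hM p
  rw [hLM, hp, PicM.of_eq_one_iff] at hb
  obtain ⟨j⟩ := hb
  obtain ⟨l⟩ := PicLim27.nonempty_linearEquiv_of_tilde (j ≪≫ (PicLim27.nonempty_tilde_self (A := A)).some.symm)
  obtain ⟨m⟩ := hA M (CommRing.Pic.mk_eq_self.symm.trans (CommRing.Pic.mk_eq_one_iff.2 ⟨l⟩))
  rw [hLM, PicM.of_eq_one_iff]
  exact ⟨(tilde.functor A).mapIso m.toModuleIso ≪≫ (PicLim27.nonempty_tilde_self (A := A)).some⟩

open Groth.Agent.CAlgH3.FppfPicLocal Groth.Agent.Desc19b.FppfEt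

variable {X : Scheme.{u}} {F G : EtFppf.AbF X} {g : F ⟶ G} (K : UnitsKernel g)

include K in
/-- A section of the quotient killed by `p` lifts globally when there is no `p`-torsion. -/
theorem exists_global_lift_of_torsion [Sheaf.IsLocallySurjective g] (p : ℕ)
    (hPic : ∀ a : PicM X, a ^ p = 1 → a = 1)
    (q : Sec G (opn (⊤ : X.Opens))) (hq : p • q = 0) :
    ∃ y, g.hom.app (op (opn (⊤ : X.Opens))) y = q := by
  haveI := Desc19b.EtQCoh.zarCont X
  haveI : EtFppf.ACont X := inferInstance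
  obtain ⟨_⟩ := PicH127.nonempty_law X
  let θ : PicLoc.PicSet X →* PicM X :=
    { toFun := fun c => ⟨c.1, c.2⟩
      map_one' := PicM.ext (PicGrp.one_val (Y := X))
      map_mul' := fun a b => PicM.ext (PicGrp.mul_val a b) }
  let e₁ := AddEquiv.ofBijective (PicH127.picToH1 (PicH127.hasTriv_id (X := X))) (PicH127.picToH1_bijective _)
  obtain ⟨b⟩ := Desc19b.EtQCoh.nonempty_H_lift 1 (UnitsSh.unitsAb X)
  have hS := shortExact_res K
  let hT : IsTerminal (⊤ : X.Opens) := IsTerminal.ofUniqueHom (fun U => homOfLE le_top) (fun _ _ => Subsingleton.elim _ _)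
  let adj := constantSheafAdj (Opens.grothendieckTopology X) AddCommGrpCat.{u + 1} hT
  let Z := AddCommGrpCat.of (ULift.{u + 1} ℤ)
  let a' : Z ⟶ (res.obj G).obj.obj (op ⊤) := AddCommGrpCat.ofHom (uliftZMultiplesHom _ q)
  let a := (adj.homEquiv Z (res.obj G)).symm a'
  have ha' : p • a' = 0 := by
    ext x
    show p • (uliftZMultiplesHom _ q x) = 0
    rw [uliftZMultiplesHom_apply_apply, smul_comm, hq, smul_zero]
  have ha : p • a = 0 := by
    refine (map_nsmul (adj.homAddEquiv Z (res.obj G)).symm p a').symm.trans ?_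
    rw [ha', map_zero]
  let δ : EtZar.H ((Desc19b.EtQCoh.lift X).obj (UnitsSh.unitsAb X)) 1 :=
    (Ext.mk₀ a).comp hS.extClass rfl
  have hδ : p • δ = 0 := by
    let μ : ((constantSheaf (Opens.grothendieckTopology X) AddCommGrpCat.{u + 1}).obj Z ⟶ res.obj G) →+
        EtZar.H ((Desc19b.EtQCoh.lift X).obj (UnitsSh.unitsAb X)) 1 :=
      AddMonoidHom.mk' (fun a => (Ext.mk₀ a).comp hS.extClass rfl)
        fun a a' => by rw [Ext.mk₀_add, Ext.add_comp]
    show p • μ a = 0
    rw [← map_nsmul, ha, map_zero]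
  have hδ0 : δ = 0 := by
    let E' : EtZar.H ((Desc19b.EtQCoh.lift X).obj (UnitsSh.unitsAb X)) 1 →+ Additive (PicLoc.PicSet X) :=
      e₁.symm.toAddMonoidHom.comp (AddEquiv.ulift.toAddMonoidHom.comp b.toAddMonoidHom)
    have hE : Function.Injective E' := e₁.symm.injective.comp (AddEquiv.ulift.injective.comp b.injective)
    let c := Additive.toMul (E' δ)
    have hc : c ^ p = 1 := by
      show Additive.toMul (p • E' δ) = 1
      rw [← map_nsmul, hδ, map_zero]
      rfl
    have hc1 : c = 1 := by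
      have h1 := hPic (θ c) (by rw [← map_pow, hc, map_one])
      have h2 : (θ c).val = (θ 1).val := by rw [h1, map_one]
      exact Subtype.ext h2
    refine hE (Additive.toMul.injective ?_)
    rw [map_zero]
    exact hc1
  obtain ⟨x, hx⟩ := Ext.covariant_sequence_exact₃ _ hS (Ext.mk₀ a) rfl hδ0
  obtain ⟨b', rfl⟩ := (Ext.mk₀_bijective _ _).2 x
  rw [Ext.mk₀_comp_mk₀] at hx
  have hba := congrArg (adj.homEquiv Z (res.obj G)) ((Ext.mk₀_bijective _ _).1 hx)
  rw [Adjunction.homEquiv_naturality_right, Equiv.apply_symm_apply] at hba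
  refine ⟨adj.homEquiv Z (res.obj F) b' (ULift.up 1), ?_⟩
  refine (ConcreteCategory.congr_hom hba (ULift.up 1)).trans ?_
  show (1 : ℤ) • q = q
  exact one_zsmul q

end Groth.Agent.GaPerf23
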